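import Cfsg.Agent.Lib.FischerOrder.Points
import Cfsg.Agent.Lib.FischerInvol.Four
import Cfsg.Agent.Lib.FischerUnique.Simple
import Cfsg.Agent.Lib.FischerCent.Levels
import Cfsg.Agent.Lib.U6Cover.Sylow

set_option autoImplicit false

/-! The parameters of the rank three graph of type M(22) and the order of the group. -/

namespace CfsgLib.FischerOrder

open Subgroup CfsgLib.Classical.Herm HermSpace CfsgLib.UnitaryTransv
open CfsgLib.FischerType CfsgLib.FischerInvol
open CfsgLib.FischerInvol.U6 (P P_orth P_ne card_isotropic card_perp_point exists_sum_separating)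
open CfsgLib.ThreeTrans (link mul_self inv_eq conj_pair commute_conj_iff' conj_self_of_commute conj_conj_eq)

/-! ### The unitary space -/

section vectors

variable {F : Type} [Field F] [Fintype F] (hF : Fintype.card F = 2 ^ 2)

local notation "𝓗" => stdHerm hF 6
local notation "𝕍" => (Fin 6 → F)

include hF

/-- An isotropic vector orthogonal to at most four given ones. -/
theorem exists_isotropic_orth {k : ℕ} (a : Fin k → 𝕍) (hk : k ≤ 4) :
    ∃ v : 𝕍, v ≠ 0 ∧ (𝓗).h v v = 0 ∧ ∀ i, (𝓗).h v (a i) = 0 := by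
  obtain ⟨x, hx0, hx⟩ := CfsgLib.FischerType.U6.exists_kernel_vector
    (fun i => (𝓗).form (a i)) (by omega)
  have hx' : ∀ i, (𝓗).h x (a i) = 0 := fun i => by simpa using hx i
  rcases CfsgLib.FischerType.U6.value_cases hF x with h | h
  · exact ⟨x, hx0, h, hx'⟩
  obtain ⟨y, hy0, hy⟩ := CfsgLib.FischerType.U6.exists_kernel_vector
    (Fin.cons ((𝓗).form x) (fun i => (𝓗).form (a i))) (by omega : k + 1 < 6)
  have hyx : (𝓗).h y x = 0 := by simpa using hy 0
  have hy' : ∀ i, (𝓗).h y (a i) = 0 := fun i => by simpa using hy i.succ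
  rcases CfsgLib.FischerType.U6.value_cases hF y with h1 | h1
  · exact ⟨y, hy0, h1, hy'⟩
  refine ⟨x + y, fun h0 => ?_, ?_, fun i => ?_⟩
  · have h2 : (𝓗).h (x + y) x = 0 := by rw [h0, (𝓗).zero_left]
    rw [(𝓗).add_left, hyx, h, add_zero] at h2
    exact one_ne_zero h2
  · rw [(𝓗).add_left, (𝓗).add_right, (𝓗).add_right, h, h1, hyx, (𝓗).h_comm_zero hyx]
    linear_combination CfsgLib.UnitaryTransv.two_eq_zero hF
  · rw [(𝓗).add_left, hx', hy', add_zero]

/-- The same, and a second one off the first. -/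
theorem exists_isotropic_pair {a b : 𝕍} :
    ∃ x y : 𝕍, x ≠ 0 ∧ y ≠ 0 ∧ (𝓗).h x x = 0 ∧ (𝓗).h y y = 0 ∧ (𝓗).h x a = 0 ∧ (𝓗).h x b = 0 ∧
      (𝓗).h y a = 0 ∧ (𝓗).h y b = 0 ∧ (𝓗).h y x = 0 ∧ ∀ t : F, y ≠ t • x := by
  obtain ⟨x, hx0, hx, hx'⟩ := exists_isotropic_orth hF ![a, b] (by norm_num)
  obtain ⟨r, hr⟩ := (𝓗).exists_h_one hx0
  obtain ⟨y, hy0, hy, hy'⟩ := exists_isotropic_orth hF ![a, b, x, r] le_rfl
  refine ⟨x, y, hx0, hy0, hx, hy, hx' 0, hx' 1, hy' 0, hy' 1, hy' 2, fun t ht => hy0 ?_⟩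
  have h : (𝓗).h y r = 0 := hy' 3
  rw [ht, (𝓗).smul_left] at h
  rcases mul_eq_zero.1 h with h | h
  · rw [ht, h, zero_smul]
  · rw [(𝓗).h_comm_zero h] at hr
    exact absurd hr zero_ne_one

/-- Orthogonal to a hyperbolic pair some isotropic vector is orthogonal to neither of two given ones. -/
theorem exists_neither_hpair {u v x y : 𝕍} (hu : (𝓗).h u u = 0) (hv : (𝓗).h v v = 0)
    (huv : (𝓗).h u v ≠ 0) (hx0 : x ≠ 0) (hy0 : y ≠ 0) (hxu : (𝓗).h x u = 0) (hxv : (𝓗).h x v = 0)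
    (hyu : (𝓗).h y u = 0) (hyv : (𝓗).h y v = 0) :
    ∃ r, r ≠ 0 ∧ (𝓗).h r r = 0 ∧ (𝓗).h r u = 0 ∧ (𝓗).h r v = 0 ∧
      (𝓗).h r x ≠ 0 ∧ (𝓗).h r y ≠ 0 := by
  set c := (𝓗).h u v with hc
  have hv' : (𝓗).h (c • v) (c • v) = 0 := by
    rw [(𝓗).smul_left, (𝓗).smul_right, hv, mul_zero, mul_zero]
  have huv' : (𝓗).h u (c • v) = 1 := by
    rw [(𝓗).smul_right, ← hc, stdHerm_conj]
    linear_combination CfsgLib.UnitaryTransv.pow_three hF huv
  have key : ∀ z : 𝕍, z ≠ 0 → (𝓗).h z u = 0 → (𝓗).h z v = 0 →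
      ∃ k, k ≠ 0 ∧ (𝓗).h k k = 0 ∧ (𝓗).h k u = 0 ∧ (𝓗).h k v = 0 ∧ (𝓗).h k z ≠ 0 := by
    intro z hz0 hzu hzv
    by_contra! hno
    refine hz0 ?_
    have e := CfsgLib.FischerType.U6.eq_comb_hpair hF hu hv' huv' (y := z) fun k h0 h1 h2 h3 => by
      refine (𝓗).h_comm_zero (hno k h0 h1 h2 ?_)
      rw [(𝓗).smul_right, mul_eq_zero] at h3
      exact h3.resolve_left (by rw [stdHerm_conj]; exact pow_ne_zero _ huv)
    rw [e, hzu, (𝓗).smul_right, hzv, mul_zero, zero_smul, zero_smul, add_zero]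
  obtain ⟨p, hp0, hp, hpu, hpv, hpx⟩ := key x hx0 hxu hxv
  obtain ⟨q, hq0, hq, hqu, hqv, hqy⟩ := key y hy0 hyu hyv
  by_cases hpy : (𝓗).h p y = 0
  · by_cases hqx : (𝓗).h q x = 0
    · obtain ⟨t, h0, h1, h2, h3⟩ := exists_sum_separating hF hp hq hpx hpy hqx hqy
      exact ⟨_, h0, h1, by rw [(𝓗).add_left, (𝓗).smul_left, hpu, hqu, mul_zero, add_zero],
        by rw [(𝓗).add_left, (𝓗).smul_left, hpv, hqv, mul_zero, add_zero], h2, h3⟩
    · exact ⟨q, hq0, hq, hqu, hqv, hqx, hqy⟩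
  · exact ⟨p, hp0, hp, hpu, hpv, hpx, hpy⟩

end vectors

variable {G : Type*} [Group G] [Finite G] {D : Set G}

/-- Every member has a model in type M(22). -/
theorem models_of_typeM22 (S : Setting D) (h : Cfsg.IsOfTypeM22 G D) {d : G} (hd : d ∈ D) :
    ∃ (F : Type) (_ : Field F) (_ : Fintype F), Nonempty (Model D d F) := by
  obtain ⟨d₀, hd₀, ⟨u, hu, v, hv, huv⟩, -, F, i1, i2, hF, ⟨e⟩⟩ :=
    CfsgLib.FischerUnique.exists_data_of_typeM22 S h
  have hs : IsSimpleGroup (Quot D d₀) := CfsgLib.FischerType.isSimpleGroup_of_psu hF e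
  have hnc : ¬ Commute (toImg D d₀ hu) (toImg D d₀ hv) := fun h =>
    huv (commute_of_toImg S.cls.1 hu hv h)
  have : Fact (Nat.Prime 2) := ⟨Nat.prime_two⟩
  have : Fact (Nat.Prime 3) := ⟨Nat.prime_three⟩
  exact CfsgLib.FischerInvol.exists_model S h hd₀
    (pCore_link_le_of_quot (pCore_eq_bot_of_simple 3 hs hnc))
    (pCore_link_le_of_quot (pCore_eq_bot_of_simple 2 hs hnc)) hd

variable (S : Setting D) (h : Cfsg.IsOfTypeM22 G D)

include S h

/-- A member commutes with 693 others. -/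
theorem ncard_link {d : G} (hd : d ∈ D) : (link D d).ncard = 693 := by
  obtain ⟨F, i1, i2, ⟨M⟩⟩ := models_of_typeM22 S h hd
  have e : link D d = {w | ∃ v, (v ≠ 0 ∧ (stdHerm M.hF 6).h v v = 0) ∧ M.Rep w v} := by
    ext w
    constructor
    · intro hw
      obtain ⟨v, hv⟩ := M.exists_vec hw
      exact ⟨v, ⟨hv.ne_zero, hv.isotropic⟩, hv⟩
    · rintro ⟨v, -, hv⟩
      exact hv.mem
  have h1 := M.ncard_mul_three (Q := fun v => v ≠ 0 ∧ (stdHerm M.hF 6).h v v = 0)
    fun v hv => ⟨hv.1, hv.2, fun t ht => ⟨smul_ne_zero ht hv.1, by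
      rw [(stdHerm M.hF 6).smul_left, (stdHerm M.hF 6).smul_right, hv.2, mul_zero, mul_zero]⟩⟩
  have h2 : Nat.card {v : Fin 6 → F // v ≠ 0 ∧ (stdHerm M.hF 6).h v v = 0} = 2079 := by
    have e1 : {v : Fin 6 → F | v ≠ 0 ∧ (stdHerm M.hF 6).h v v = 0} =
        {v : Fin 6 → F | (stdHerm M.hF 6).h v v = 0} \ {0} := by
      ext v
      simp [and_comm, -stdHerm_h]
    have h0 : (0 : Fin 6 → F) ∈ {v : Fin 6 → F | (stdHerm M.hF 6).h v v = 0} :=
      (stdHerm M.hF 6).zero_left _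
    have h3 : {v : Fin 6 → F | (stdHerm M.hF 6).h v v = 0}.ncard = 2080 := by
      rw [← Nat.card_coe_set_eq]
      exact card_isotropic M.hF
    have h4 := Set.ncard_sdiff_singleton_of_mem h0
    rw [← e1, h3, ← Nat.card_coe_set_eq] at h4
    exact h4
  rw [h2, ← e] at h1
  omega

omit [Finite G] h in
theorem ncard_inter_link_conj (g a b : G) :
    (link D (g * a * g⁻¹) ∩ link D (g * b * g⁻¹)).ncard = (link D a ∩ link D b).ncard := by
  have hinj : Function.Injective fun e => g * e * g⁻¹ := fun e f h =>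
    mul_left_cancel (mul_right_cancel h)
  rw [← CfsgLib.ThreeTrans.link_conj S.cls, ← CfsgLib.ThreeTrans.link_conj S.cls,
    ← Set.image_inter hinj, Set.ncard_image_of_injective _ hinj]

/-- Two commuting members commute with 180 others. -/
theorem ncard_inter_link {a b : G} (ha : a ∈ D) (hb : b ∈ link D a) :
    (link D a ∩ link D b).ncard = 180 := by
  obtain ⟨F, i1, i2, ⟨M⟩⟩ := models_of_typeM22 S h ha
  obtain ⟨E, hE⟩ := M.exists_member (P_orth M.hF 1 0 0 1 0 0) (P_ne (Or.inl one_ne_zero))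
  obtain ⟨g, hga, hgb⟩ := S.exists_conj_pair ha hb ha hE.mem
  rw [← ncard_inter_link_conj S g, hga, hgb]
  let Q : (Fin 6 → F) → Prop := fun v => (stdHerm M.hF 6).h v v = 0 ∧
    (stdHerm M.hF 6).h v (P 1 0 0) = 0 ∧ ∀ t : F, v ≠ t • P 1 0 0
  have e : link D a ∩ link D E = {w | ∃ v, Q v ∧ M.Rep w v} := by
    ext w
    constructor
    · rintro ⟨hw, hwE⟩
      obtain ⟨v, hv⟩ := M.exists_vec hw
      exact ⟨v, ⟨hv.isotropic, (M.commute_iff hv hE).1 hwE.2.2.symm,
        fun t ht => hwE.2.1 (M.eq_of_smul hE hv ht).symm⟩, hv⟩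
    · rintro ⟨v, ⟨-, h2, h3⟩, hv⟩
      exact ⟨hv.mem, hv.mem.1, M.ne_of_indep hE hv h3 |>.symm, ((M.commute_iff hv hE).2 h2).symm⟩
  have h1 := M.ncard_mul_three (Q := Q) fun v hv => ⟨fun h0 => hv.2.2 0 (by rw [h0, zero_smul]),
    hv.1, fun t ht => ⟨by
      rw [(stdHerm M.hF 6).smul_left, (stdHerm M.hF 6).smul_right, hv.1, mul_zero, mul_zero],
      by rw [(stdHerm M.hF 6).smul_left, hv.2.1, mul_zero],
      fun s hs => hv.2.2 (t⁻¹ * s) (by rw [← smul_smul, ← hs, smul_smul, inv_mul_cancel₀ ht, one_smul])⟩⟩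
  have h2 : Nat.card {v : Fin 6 → F // Q v} = 540 := by
    let A : Set (Fin 6 → F) :=
      {v | (stdHerm M.hF 6).h v v = 0 ∧ (stdHerm M.hF 6).h v (P 1 0 0) = 0}
    let B : Set (Fin 6 → F) := Set.range fun t : F => t • P (1 : F) 0 0
    have hB : B ⊆ A := by
      rintro _ ⟨t, rfl⟩
      simp only [A, Set.mem_setOf_eq, (stdHerm M.hF 6).smul_left, (stdHerm M.hF 6).smul_right,
        P_orth, mul_zero, and_self]
    have hBc : B.ncard = 4 := by
      rw [Set.ncard_range_of_injective (smul_left_injective F (P_ne (Or.inl one_ne_zero))),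
        Nat.card_eq_fintype_card, M.hF]
      norm_num
    have hA : A.ncard = 544 := by
      rw [← Nat.card_coe_set_eq]
      exact card_perp_point M.hF
    have e1 : {v : Fin 6 → F | Q v} = A \ B := by
      ext v
      simp only [Q, A, B, Set.mem_setOf_eq, Set.mem_sdiff, Set.mem_range, not_exists, and_assoc]
      exact and_congr_right fun _ => and_congr_right fun _ => forall_congr' fun t =>
        ⟨fun h e => h e.symm, fun h e => h e.symm⟩
    have h4 := Set.ncard_sdiff hB (Set.toFinite _)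
    rw [← e1, hA, hBc, ← Nat.card_coe_set_eq] at h4
    exact h4
  rw [h2, ← e] at h1
  omega

omit h in
/-- Non-commuting pairs are all conjugate. -/
theorem exists_conj_noncommuting {a c a' c' : G} (ha : a ∈ D) (hc : c ∈ D) (hac : ¬ Commute a c)
    (ha' : a' ∈ D) (hc' : c' ∈ D) (hac' : ¬ Commute a' c')
    (hedge : ∃ u ∈ D, ∃ v ∈ D, u ≠ v ∧ Commute u v) :
    ∃ g : G, g * a * g⁻¹ = a' ∧ g * c * g⁻¹ = c' := by
  obtain ⟨g, rfl⟩ := CfsgLib.ThreeTransp.class_conj S.cls ha ha'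
  obtain ⟨k, hk, hkc⟩ := CfsgLib.ThreeTrans.rel_noncommuting S.cls S.prim hedge ha'
    (CfsgLib.ThreeTransp.class_conj_mem S.cls g hc) hc'
    (fun h => hac ((commute_conj_iff' g a c).1 h)) hac'
  exact ⟨k * g, by rw [← conj_conj_eq, conj_self_of_commute hk], by rw [← conj_conj_eq, hkc]⟩

theorem exists_edge : ∃ u ∈ D, ∃ v ∈ D, u ≠ v ∧ Commute u v := by
  obtain ⟨d, hd, ⟨u, hu, -⟩, -⟩ := CfsgLib.FischerUnique.exists_data_of_typeM22 S h
  exact Setting.edge hd hu

theorem inter_link_nonempty {a c : G} (ha : a ∈ D) (hc : c ∈ D) (hac : ¬ Commute a c) :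
    (link D a ∩ link D c).Nonempty := by
  obtain ⟨d, hd, ⟨u, hu, v, hv, huv⟩, -⟩ := CfsgLib.FischerUnique.exists_data_of_typeM22 S h
  obtain ⟨g, rfl, rfl⟩ := exists_conj_noncommuting S hu.1 hv.1 huv ha hc hac (exists_edge S h)
  exact ⟨g * d * g⁻¹, link_conj_mem S.cls g ⟨hd, hu.2.1.symm, hu.2.2.symm⟩,
    link_conj_mem S.cls g ⟨hd, hv.2.1.symm, hv.2.2.symm⟩⟩

section pair

variable {a c : G} (ha : a ∈ D) (hc : c ∈ D) (hac : ¬ Commute a c)

include ha hc hac

/-- Two common neighbours inside the link of a third have one commuting with neither. -/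
theorem exists_neither_inter {u x y : G} (hu : u ∈ link D a ∩ link D c)
    (hx : x ∈ link D a ∩ link D c) (hxu : x ∈ link D u)
    (hy : y ∈ link D a ∩ link D c) (hyu : y ∈ link D u) :
    ∃ z ∈ link D a ∩ link D c, z ∈ link D u ∧ ¬ Commute z x ∧ ¬ Commute z y := by
  obtain ⟨F, i1, i2, ⟨M⟩⟩ := models_of_typeM22 S h hu.1.1
  obtain ⟨va, hva⟩ := M.exists_vec (w := a) ⟨ha, hu.1.2.1.symm, hu.1.2.2.symm⟩
  obtain ⟨vc, hvc⟩ := M.exists_vec (w := c) ⟨hc, hu.2.2.1.symm, hu.2.2.2.symm⟩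
  obtain ⟨vx, hvx⟩ := M.exists_vec hxu
  obtain ⟨vy, hvy⟩ := M.exists_vec hyu
  obtain ⟨r, hr0, hr, hra, hrc, hrx, hry⟩ := exists_neither_hpair M.hF hva.isotropic hvc.isotropic
    (fun h0 => hac ((M.commute_iff hva hvc).2 h0)) hvx.ne_zero hvy.ne_zero
    ((M.commute_iff hvx hva).1 hx.1.2.2.symm) ((M.commute_iff hvx hvc).1 hx.2.2.2.symm)
    ((M.commute_iff hvy hva).1 hy.1.2.2.symm) ((M.commute_iff hvy hvc).1 hy.2.2.2.symm)
  obtain ⟨z, hz⟩ := M.exists_member hr hr0
  have hza := ((M.commute_iff hz hva).2 hra).symm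
  have hzc := ((M.commute_iff hz hvc).2 hrc).symm
  refine ⟨z, ⟨⟨hz.mem.1, fun e => ?_, hza⟩, hz.mem.1, fun e => ?_, hzc⟩, hz.mem,
    fun h0 => hrx ((M.commute_iff hz hvx).1 h0), fun h0 => hry ((M.commute_iff hz hvy).1 h0)⟩
  · exact hac (e ▸ hzc).symm
  · exact hac (e ▸ hza)

/-- Inside the link of a common neighbour are two commuting common neighbours. -/
theorem exists_commuting_inter {u : G} (hu : u ∈ link D a ∩ link D c) :
    ∃ p ∈ link D a ∩ link D c, ∃ q ∈ link D a ∩ link D c, p ∈ link D u ∧ q ∈ link D u ∧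
      p ≠ q ∧ Commute p q := by
  obtain ⟨F, i1, i2, ⟨M⟩⟩ := models_of_typeM22 S h hu.1.1
  obtain ⟨va, hva⟩ := M.exists_vec (w := a) ⟨ha, hu.1.2.1.symm, hu.1.2.2.symm⟩
  obtain ⟨vc, hvc⟩ := M.exists_vec (w := c) ⟨hc, hu.2.2.1.symm, hu.2.2.2.symm⟩
  obtain ⟨x, y, hx0, hy0, hx, hy, hxa, hxc, hya, hyc, hyx, hind⟩ :=
    exists_isotropic_pair M.hF (a := va) (b := vc)
  obtain ⟨p, hp⟩ := M.exists_member hx hx0
  obtain ⟨q, hq⟩ := M.exists_member hy hy0
  have mk : ∀ {z : G} {v : Fin 6 → F}, M.Rep z v → (stdHerm M.hF 6).h v va = 0 →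
      (stdHerm M.hF 6).h v vc = 0 → z ∈ link D a ∩ link D c := by
    intro z v hz h1 h2
    have hza := ((M.commute_iff hz hva).2 h1).symm
    have hzc := ((M.commute_iff hz hvc).2 h2).symm
    exact ⟨⟨hz.mem.1, fun e => hac (e ▸ hzc).symm, hza⟩, hz.mem.1, fun e => hac (e ▸ hza), hzc⟩
  exact ⟨p, mk hp hxa hxc, q, mk hq hya hyc, hp.mem, hq.mem, M.ne_of_indep hp hq hind,
    ((M.commute_iff hq hp).2 hyx).symm⟩

theorem exists_noncommuting_inter {w : G} (hw : w ∈ link D a ∩ link D c) :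
    ∃ z ∈ link D a ∩ link D c, ¬ Commute z w := by
  obtain ⟨p, hp, q, -, hpw, -⟩ := exists_commuting_inter S h ha hc hac hw
  have hwp : w ∈ link D p := ⟨hw.1.1, hpw.2.1.symm, hpw.2.2.symm⟩
  obtain ⟨z, hz, -, hzw, -⟩ := exists_neither_inter S h ha hc hac hp hw hwp hw hwp
  exact ⟨z, hz, hzw⟩

/-- The common neighbours form one class of the group they generate. -/
theorem exists_conj_inter {x y : G} (hx : x ∈ link D a ∩ link D c)
    (hy : y ∈ link D a ∩ link D c) :
    ∃ k ∈ closure (link D a ∩ link D c), k * x * k⁻¹ = y := by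
  set W := link D a ∩ link D c with hW
  have step : ∀ p ∈ W, ∀ q ∈ W, ¬ Commute p q → ∃ k ∈ closure W, k * p * k⁻¹ = q :=
    fun p hp q hq hpq => ⟨p * q, mul_mem (subset_closure hp) (subset_closure hq),
      conj_pair S.cls.1 hp.1.1 hq.1.1 hpq⟩
  have trans' : ∀ {p q r : G}, (∃ k ∈ closure W, k * p * k⁻¹ = q) →
      (∃ k ∈ closure W, k * q * k⁻¹ = r) → ∃ k ∈ closure W, k * p * k⁻¹ = r := by
    rintro p q r ⟨k, hk, rfl⟩ ⟨l, hl, rfl⟩
    exact ⟨l * k, mul_mem hl hk, (conj_conj_eq l k p).symm⟩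
  have near : ∀ u ∈ W, ∀ p ∈ W, ∀ q ∈ W, p ∈ link D u → q ∈ link D u →
      ∃ k ∈ closure W, k * p * k⁻¹ = q := by
    intro u hu p hp q hq hpu hqu
    obtain ⟨z, hz, -, hzp, hzq⟩ := exists_neither_inter S h ha hc hac hu hp hpu hq hqu
    exact trans' (step p hp z hz fun h0 => hzp h0.symm) (step z hz q hq hzq)
  by_cases hxy : Commute x y
  · by_cases hne : x = y
    · exact ⟨1, one_mem _, by simp [hne]⟩
    obtain ⟨p, hp, q, hq, hpx, hqx, hpq, hcpq⟩ := exists_commuting_inter S h ha hc hac hx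
    have h1 : ∃ k ∈ closure W, k * x * k⁻¹ = q := near p hp x hx q hq
      ⟨hx.1.1, hpx.2.1.symm, hpx.2.2.symm⟩ ⟨hq.1.1, hpq.symm, hcpq⟩
    exact trans' h1 (near x hx q hq y hy hqx ⟨hy.1.1, fun e => hne e.symm, hxy⟩)
  · exact step x hx y hy hxy

end pair

/-- Two non-commuting members commute with 126 common others. -/
theorem ncard_inter_link_of_not_commute {a c : G} (ha : a ∈ D) (hc : c ∈ D) (hac : ¬ Commute a c) :
    (link D a ∩ link D c).ncard = 126 := by
  have hedge := exists_edge S h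
  have hdata : ∃ d ∈ D, ∃ e ∈ D, ¬ Commute d e ∧ ∃ c₃ : ZMod 3, c₃ ≠ 0 ∧
      Cfsg.IsProjReflectionGroupModThree (↥(closure (link D d ∩ link D e)) ⧸
        center ↥(closure (link D d ∩ link D e))) 6 1 c₃ := by
    obtain ⟨-, d, hd, e, he, hde, -, c₃, hc₃, hp⟩ := h
    exact ⟨d, hd, e, he, hde, c₃, hc₃, hp⟩
  obtain ⟨d, hd, e, he, hde, c₃, hc₃, hproj⟩ := hdata
  obtain ⟨g, rfl, rfl⟩ := exists_conj_noncommuting S hd he hde ha hc hac hedge
  rw [ncard_inter_link_conj S]
  clear ha hc hac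
  set W := link D d ∩ link D e with hW
  set L := closure W with hL
  have hset := S.cls.1
  have hD : ∀ {x : G}, x ∈ W → x ∈ D := fun hx => hx.1.1
  let π : ↥L →* ↥L ⧸ center ↥L := QuotientGroup.mk' _
  let toQ : W → ↥L ⧸ center ↥L := fun w => π ⟨w.1, subset_closure w.2⟩
  have hmate := fun {w : G} (hw : w ∈ W) => exists_noncommuting_inter S h hd he hde hw
  have hinj : Function.Injective toQ := by
    rintro ⟨u, hu⟩ ⟨v, hv⟩ huv
    by_contra hne
    obtain ⟨w, hw, hcw⟩ := hmate hu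
    refine hcw (commute_of_commute_mul_two hset (hD hu) (hD hv) (hD hw)
      (fun e => hne (Subtype.ext e)) ?_).1
    have h2 := congrArg Subtype.val
      (mem_center_iff.1 (QuotientGroup.eq.1 huv) ⟨w, subset_closure hw⟩)
    simp only [Subgroup.coe_mul, Subgroup.coe_inv, inv_eq hset (hD hu)] at h2
    exact h2
  set E := Set.range toQ with hE
  have hclass : Cfsg.IsThreeTranspositionClass E := by
    refine ⟨⟨?_, ?_⟩, ?_, ?_⟩
    · rintro _ ⟨⟨w, hw⟩, rfl⟩
      refine orderOf_eq_prime ?_ fun h1 => ?_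
      · rw [← map_pow, ← map_one π]
        refine congrArg π (Subtype.ext ?_)
        simp [pow_two, mul_self hset (hD hw)]
      · obtain ⟨z, hz, hzw⟩ := hmate hw
        exact hzw (congrArg Subtype.val
          (mem_center_iff.1 ((QuotientGroup.eq_one_iff _).1 h1) ⟨z, subset_closure hz⟩))
    · rintro _ ⟨⟨u, hu⟩, rfl⟩ _ ⟨⟨v, hv⟩, rfl⟩
      rw [← map_mul, ← map_pow, ← map_pow]
      refine (hset.2 u (hD hu) v (hD hv)).imp (fun h => ?_) fun h => ?_ <;>
      · rw [← map_one π]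
        exact congrArg π (Subtype.ext (by simpa using h))
    · obtain ⟨u, hu⟩ := inter_link_nonempty S h hd he hde
      refine ⟨toQ ⟨u, hu⟩, ⟨_, rfl⟩, Set.Subset.antisymm ?_ ?_⟩
      · rintro _ ⟨⟨v, hv⟩, rfl⟩
        obtain ⟨k, hk, hkv⟩ := exists_conj_inter S h hd he hde hu hv
        refine isConj_iff.2 ⟨π ⟨k, hk⟩, ?_⟩
        rw [← map_inv, ← map_mul, ← map_mul]
        exact congrArg π (Subtype.ext hkv)
      · intro q hq
        obtain ⟨q', rfl⟩ := isConj_iff.1 hq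
        obtain ⟨⟨k, hk⟩, rfl⟩ := QuotientGroup.mk'_surjective (center ↥L) q'
        have hkd : Commute k d := mem_centralizer_singleton_iff.1
          (((closure_le _).2 fun x hx => mem_centralizer_singleton_iff.2 hx.1.2.2.eq.symm :
            L ≤ centralizer {d}) hk)
        have hke : Commute k e := mem_centralizer_singleton_iff.1
          (((closure_le _).2 fun x hx => mem_centralizer_singleton_iff.2 hx.2.2.2.eq.symm :
            L ≤ centralizer {e}) hk)
        have h1 := link_conj_mem S.cls k hu.1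
        have h2 := link_conj_mem S.cls k hu.2
        rw [conj_self_of_commute hkd] at h1
        rw [conj_self_of_commute hke] at h2
        refine ⟨⟨k * u * k⁻¹, h1, h2⟩, ?_⟩
        show π _ = π _ * π _ * (π _)⁻¹
        rw [← map_inv, ← map_mul, ← map_mul]
        exact congrArg π (Subtype.ext rfl)
    · have h1 := MonoidHom.map_closure π (((↑) : ↥L → G) ⁻¹' W)
      rw [show closure (((↑) : ↥L → G) ⁻¹' W) = ⊤ from closure_closure_coe_preimage,
        Subgroup.map_top_of_surjective _ (QuotientGroup.mk'_surjective _)] at h1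
      rw [h1]
      congr 1
      ext q
      constructor
      · rintro ⟨⟨w, hw⟩, rfl⟩
        exact ⟨⟨w, subset_closure hw⟩, hw, rfl⟩
      · rintro ⟨⟨w, hw'⟩, hw, rfl⟩
        exact ⟨⟨w, hw⟩, rfl⟩
  obtain ⟨M⟩ := nonempty_graphModel hc₃ hclass hproj
  have h1 : E.ncard = 126 := by
    rw [← M.range_eq, Set.ncard_range_of_injective M.inj, Nat.card_fin]
  rwa [hE, Set.ncard_range_of_injective hinj, Nat.card_coe_set_eq] at h1

/-- There are 3510 members. -/
theorem ncard_class : D.ncard = 3510 := by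
  classical
  obtain ⟨a, ha, -⟩ := S.cls.2.1
  set M := {x | x ∈ D ∧ ¬ Commute a x} with hM
  set s := (link D a).toFinite.toFinset with hs
  set t := M.toFinite.toFinset with ht
  have key := Finset.sum_card_bipartiteAbove_eq_sum_card_bipartiteBelow (s := s) (t := t)
    (r := fun u x => Commute u x)
  have h1 : ∀ u ∈ s, (Finset.bipartiteAbove (fun u x => Commute u x) t u).card = 512 := by
    intro u hu
    have hu' : u ∈ link D a := by simpa [hs] using hu
    have hua : a ∈ link D u := ⟨ha, hu'.2.1.symm, hu'.2.2.symm⟩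
    have e : (↑(Finset.bipartiteAbove (fun u x => Commute u x) t u) : Set G) =
        link D u \ insert a (link D a ∩ link D u) := by
      ext x
      simp only [Finset.coe_bipartiteAbove, ht, Set.Finite.coe_toFinset, Set.mem_setOf_eq,
        Set.Finite.mem_toFinset, hM, Set.mem_sdiff, Set.mem_insert_iff, Set.mem_inter_iff, not_or,
        not_and]
      constructor
      · rintro ⟨⟨hx, hax⟩, hux⟩
        exact ⟨⟨hx, fun e => hax (e ▸ hu'.2.2), hux⟩, fun e => hax (e ▸ Commute.refl a),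
          fun h _ => hax h.2.2⟩
      · rintro ⟨hx, hxa, hno⟩
        exact ⟨⟨hx.1, fun hax => hno ⟨hx.1, hxa, hax⟩ hx⟩, hx.2.2⟩
    have hsub : insert a (link D a ∩ link D u) ⊆ link D u :=
      Set.insert_subset hua Set.inter_subset_right
    have hnot : a ∉ link D a ∩ link D u := fun h => h.1.2.1 rfl
    rw [← Set.ncard_coe_finset, e, Set.ncard_sdiff hsub (Set.toFinite _), ncard_link S h hu'.1,
      Set.ncard_insert_of_notMem hnot (Set.toFinite _), ncard_inter_link S h ha hu']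
  have h2 : ∀ x ∈ t, (Finset.bipartiteBelow (fun u x => Commute u x) s x).card = 126 := by
    intro x hx
    have hx' : x ∈ D ∧ ¬ Commute a x := by simpa [ht, hM] using hx
    rw [← ncard_inter_link_of_not_commute S h ha hx'.1 hx'.2, ← Set.ncard_coe_finset]
    congr 1
    ext u
    simp only [Finset.coe_bipartiteBelow, hs, Set.Finite.coe_toFinset, Set.mem_setOf_eq,
      Set.Finite.mem_toFinset, Set.mem_inter_iff]
    exact ⟨fun ⟨h1, h2⟩ => ⟨h1, h1.1, fun e => hx'.2 (e ▸ h1.2.2), h2.symm⟩,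
      fun ⟨h1, h2⟩ => ⟨h1, h2.2.2.symm⟩⟩
  rw [Finset.sum_congr rfl h1, Finset.sum_congr rfl h2, Finset.sum_const, Finset.sum_const, hs, ht,
    ← Set.ncard_eq_toFinset_card, ← Set.ncard_eq_toFinset_card, ncard_link S h ha, smul_eq_mul,
    smul_eq_mul] at key
  have hdec : D = insert a (link D a) ∪ M := by
    ext x
    simp only [hM, Set.mem_union, Set.mem_insert_iff, Set.mem_setOf_eq]
    constructor
    · intro hx
      by_cases hxa : x = a
      · exact Or.inl (Or.inl hxa)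
      by_cases hax : Commute a x
      · exact Or.inl (Or.inr ⟨hx, hxa, hax⟩)
      · exact Or.inr ⟨hx, hax⟩
    · rintro ((rfl | hx) | hx)
      exacts [ha, hx.1, hx.1]
  have hdisj : Disjoint (insert a (link D a)) M := by
    rw [Set.disjoint_left]
    rintro x (rfl | hx) hxM
    · exact hxM.2 (Commute.refl _)
    · exact hxM.2 hx.2.2
  have hnot : a ∉ link D a := fun h => h.2.1 rfl
  rw [hdec, Set.ncard_union_eq hdisj (Set.toFinite _) (Set.toFinite _),
    Set.ncard_insert_of_notMem hnot (Set.toFinite _), ncard_link S h ha]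
  omega

/-- The centraliser of a member is a double cover of the unitary group. -/
theorem card_centralizer {d : G} (hd : d ∈ D) :
    Nat.card (centralizer ({d} : Set G)) = 2 * 9196830720 := by
  obtain ⟨F, i1, i2, ⟨M⟩⟩ := models_of_typeM22 S h hd
  obtain ⟨hdL, -, hcen⟩ := CfsgLib.FischerUnique.link_group_of_typeM22 S h hd
  rw [CfsgLib.FischerCent.centralizer_eq_of_typeM22 S h hd,
    Subgroup.card_eq_card_quotient_mul_card_subgroup (center ↥(closure (link D d))),
    Nat.card_congr M.e.toEquiv,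
    CfsgLib.U6Cover.card_psu_six (by rw [Nat.card_eq_fintype_card, M.hF]; norm_num), hcen,
    Nat.card_congr (Subgroup.subgroupOfEquivOfLe (zpowers_le.2 hdL)).toEquiv, Nat.card_zpowers,
    S.cls.1.1 d hd]

/-- The order of a group of type M(22). -/
theorem card_group : Nat.card G = 3510 * (2 * 9196830720) := by
  obtain ⟨d, hd, hD⟩ := S.cls.2.1
  have e1 : MulAction.orbit (ConjAct G) d = D := by
    rw [hD]
    ext x
    rw [ConjAct.mem_orbit_conjAct]
    exact isConj_comm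
  have e2 : Nat.card (MulAction.stabilizer (ConjAct G) d) = Nat.card (centralizer ({d} : Set G)) :=
    Nat.card_congr
      { toFun := fun g => ⟨ConjAct.ofConjAct g.1, mem_centralizer_singleton_iff.2
          (mul_inv_eq_iff_eq_mul.1
            ((ConjAct.smul_def g.1 d).symm.trans (MulAction.mem_stabilizer_iff.1 g.2)))⟩
        invFun := fun g => ⟨ConjAct.toConjAct g.1, by
          simp [MulAction.mem_stabilizer_iff, ConjAct.smul_def,
            mul_inv_eq_iff_eq_mul.2 (mem_centralizer_singleton_iff.1 g.2)]⟩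
        left_inv := fun _ => rfl
        right_inv := fun _ => rfl }
  have key := MulAction.index_stabilizer (ConjAct G) d
  rw [e1, ncard_class S h] at key
  have h3 := Subgroup.card_mul_index (MulAction.stabilizer (ConjAct G) d)
  rw [key, e2, card_centralizer S h hd] at h3
  rw [show Nat.card G = Nat.card (ConjAct G) from rfl, ← h3, mul_comm]

end CfsgLib.FischerOrder
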