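import Cfsg.Agent.Lib.ThreeTransp.OrthReflection

set_option autoImplicit false

/-! In the projective reflection group of a six-dimensional orthogonal space of discriminant one over
three elements a class of 3-transpositions consists of the reflections. -/

namespace CfsgLib.FischerOrder.Refl

open QuadraticMap (polar)
open CfsgLib.OrthSpinor CfsgLib.OrthReflThree Subgroup
open Matrix

variable {Q : QuadraticForm (ZMod 3) (Fin 6 → ZMod 3)} {c : ZMod 3}

local notation "𝕍" => (Fin 6 → ZMod 3)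
/-- The isometries. -/
abbrev Iso (Q : QuadraticForm (ZMod 3) (Fin 6 → ZMod 3)) : Type :=
  ↥(Cfsg.isometryGroup (ZMod 3) (⇑Q))

/-- The group of the reflections of norm `c`. -/
abbrev RG (Q : QuadraticForm (ZMod 3) (Fin 6 → ZMod 3)) (c : ZMod 3) : Subgroup (Iso Q) :=
  Cfsg.reflectionSubgroup (⇑Q) c

variable (Q c) in
/-- An orthogonal basis of vectors of norm `c`. -/
structure NBasis where
  e : Fin 6 → Fin 6 → ZMod 3
  norm : ∀ i, Q (e i) = c
  orth : ∀ i j, i ≠ j → polar (⇑Q) (e i) (e j) = 0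

theorem polar_sum (v : 𝕍) (f : Fin 6 → 𝕍) (a : Fin 6 → ZMod 3) :
    polar (⇑Q) v (∑ i, a i • f i) = ∑ i, a i * polar (⇑Q) v (f i) := by
  have h := map_sum (QuadraticMap.polarBilin Q v) (fun i => a i • f i) Finset.univ
  simp only [QuadraticMap.polarBilin_apply_apply] at h
  rw [h]
  refine Finset.sum_congr rfl fun i _ => ?_
  rw [QuadraticMap.polar_smul_right, smul_eq_mul]

theorem polar_sum_k {k : ℕ} (v : 𝕍) (f : Fin k → 𝕍) (a : Fin k → ZMod 3) :
    polar (⇑Q) v (∑ i, a i • f i) = ∑ i, a i * polar (⇑Q) v (f i) := by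
  have h := map_sum (QuadraticMap.polarBilin Q v) (fun i => a i • f i) Finset.univ
  simp only [QuadraticMap.polarBilin_apply_apply] at h
  rw [h]
  exact Finset.sum_congr rfl fun i _ => by rw [QuadraticMap.polar_smul_right, smul_eq_mul]

theorem gram_det (f : Fin 6 → 𝕍) :
    (Matrix.of fun i j => polar (⇑Q) (f i) (f j)).det =
      (Matrix.of f).det * (Matrix.of f).det * Cfsg.polarGramDet (⇑Q) := by
  set G : Matrix (Fin 6) (Fin 6) (ZMod 3) :=
    Matrix.of fun i j => QuadraticMap.polar Q (Pi.single i 1) (Pi.single j 1) with hG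
  have hexp : ∀ v : 𝕍, v = ∑ i, v i • (Pi.single i 1 : 𝕍) := fun v => by
    ext k; simp [Finset.sum_apply, Pi.single_apply]
  have key : (Matrix.of fun i j => polar (⇑Q) (f i) (f j)) = Matrix.of f * G * (Matrix.of f).transpose := by
    ext i j
    simp only [Matrix.of_apply, Matrix.mul_apply, Matrix.transpose_apply, hG]
    conv_lhs => rw [hexp (f j), polar_sum]
    refine Finset.sum_congr rfl fun l _ => ?_
    rw [mul_comm, polar_comm' Q (f i)]
    congr 1
    conv_lhs => rw [hexp (f i), polar_sum]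
    exact Finset.sum_congr rfl fun k _ => by rw [polar_comm' Q (Pi.single l 1)]
  rw [key, Matrix.det_mul, Matrix.det_mul, Matrix.det_transpose]
  show _ * G.det * _ = _ * G.det
  ring

theorem exists_nbasis (hQ : (QuadraticMap.polarBilin Q).Nondegenerate)
    (hμ : Cfsg.polarGramDet (⇑Q) = 1) (hc : c ≠ 0) : Nonempty (NBasis Q c) := by
  have hext : ∀ k ≤ 5, ∃ p : Fin k → 𝕍, (∀ i, Q (p i) = c) ∧
      ∀ i j, i ≠ j → polar (⇑Q) (p i) (p j) = 0 := by
    intro k hk
    induction k with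
    | zero => exact ⟨fun i => i.elim0, fun i => i.elim0, fun i => i.elim0⟩
    | succ k ih =>
      obtain ⟨p, hp, hpp⟩ := ih (by omega)
      obtain ⟨z, hz, hzo⟩ := exists_ortho_norm hQ p (fun i => hp i ▸ hc) hpp (by omega) c
      refine ⟨Fin.snoc p z, fun i => ?_, fun i j hij => ?_⟩
      · induction i using Fin.lastCases <;> simp [hz, hp]
      · induction i using Fin.lastCases with
        | last =>
          induction j using Fin.lastCases with
          | last => exact absurd rfl hij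
          | cast j => simp [polar_comm' Q z (p j), hzo]
        | cast i =>
          induction j using Fin.lastCases with
          | last => simp [hzo]
          | cast j => simpa using hpp i j fun e => hij (by rw [e])
  obtain ⟨p, hp, hpp⟩ := hext 5 le_rfl
  obtain ⟨a, ha, hao⟩ := exists_ortho_anisotropic two_ne hQ p (fun i => hp i ▸ hc) hpp
    (by rw [Fintype.card_fin]; norm_num)
  set f : Fin 6 → 𝕍 := Fin.snoc p a with hf
  have forth : ∀ i j, i ≠ j → polar (⇑Q) (f i) (f j) = 0 := by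
    intro i j hij
    induction i using Fin.lastCases with
    | last =>
      induction j using Fin.lastCases with
      | last => exact absurd rfl hij
      | cast j =>
        simp only [hf, Fin.snoc_last, Fin.snoc_castSucc]
        rw [polar_comm' Q a (p j), hao]
    | cast i =>
      induction j using Fin.lastCases with
      | last =>
        simp only [hf, Fin.snoc_last, Fin.snoc_castSucc]
        exact hao i
      | cast j => simpa [hf] using hpp i j fun e => hij (by rw [e])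
  have hdiag : (Matrix.of fun i j => polar (⇑Q) (f i) (f j)) = Matrix.diagonal fun i => 2 * Q (f i) := by
    ext i j
    by_cases hij : i = j
    · subst hij; simp [polar_self']
    · simp [hij, forth i j hij]
  have hdet := gram_det (Q := Q) f
  rw [hdiag, Matrix.det_diagonal, hμ, mul_one, Fin.prod_univ_castSucc] at hdet
  simp only [hf, Fin.snoc_castSucc, Fin.snoc_last, hp, Finset.prod_const, Finset.card_univ,
    Fintype.card_fin] at hdet
  have hsolve : ∀ c t d : ZMod 3, c ≠ 0 → t ≠ 0 → (2 * c) ^ 5 * (2 * t) = d * d → t = c := by decide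
  exact ⟨⟨f, fun i => by
    induction i using Fin.lastCases with
    | last =>
      simp only [hf, Fin.snoc_last]
      exact hsolve c (Q a) _ hc ha hdet
    | cast i => simp [hf, hp], forth⟩⟩

namespace NBasis

variable (B : NBasis Q c) (hQ : (QuadraticMap.polarBilin Q).Nondegenerate) (hc : c ≠ 0)

/-- The vector with given coordinates. -/
def vec (a : Fin 6 → ZMod 3) : 𝕍 := ∑ i, a i • B.e i

theorem polar_vec_e (a : Fin 6 → ZMod 3) (i : Fin 6) : polar (⇑Q) (B.e i) (B.vec a) = 2 * c * a i := by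
  rw [vec, polar_sum, Finset.sum_eq_single i (fun j _ hj => by rw [B.orth i j hj.symm, mul_zero])
    (by simp), polar_self', B.norm]
  ring

theorem polar_vec (a b : Fin 6 → ZMod 3) :
    polar (⇑Q) (B.vec a) (B.vec b) = 2 * c * ∑ i, a i * b i := by
  show polar (⇑Q) (B.vec a) (∑ i, b i • B.e i) = _
  rw [polar_sum, Finset.mul_sum]
  refine Finset.sum_congr rfl fun i _ => ?_
  rw [polar_comm' Q, B.polar_vec_e]
  ring

theorem Q_vec (a : Fin 6 → ZMod 3) : Q (B.vec a) = c * ∑ i, a i * a i := by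
  have h := B.polar_vec a a
  rw [polar_self'] at h
  exact mul_left_cancel₀ two_ne (by rw [h]; ring)

include hQ hc

theorem indep : LinearIndependent (ZMod 3) B.e := by
  rw [Fintype.linearIndependent_iff]
  intro a ha i
  have h := B.polar_vec_e a i
  rw [show B.vec a = 0 from ha, QuadraticMap.polar_zero_right] at h
  exact (mul_eq_zero.1 h.symm).resolve_left (mul_ne_zero two_ne hc)

theorem exists_coords (v : 𝕍) : ∃ a, B.vec a = v := by
  refine ⟨fun i => (2 * c)⁻¹ * polar (⇑Q) (B.e i) v, ?_⟩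
  have hspan := (B.indep hQ hc).span_eq_top_of_card_eq_finrank (by simp)
  rw [← sub_eq_zero]
  refine eq_zero_of_polar hQ fun y => ?_
  have hy : y ∈ Submodule.span (ZMod 3) (Set.range B.e) := by rw [hspan]; trivial
  induction hy using Submodule.span_induction with
  | mem y hy =>
    obtain ⟨i, rfl⟩ := hy
    rw [QuadraticMap.polar_sub_left, polar_comm' Q _ (B.e i), B.polar_vec_e, polar_comm' Q v,
      ← mul_assoc, mul_inv_cancel₀ (mul_ne_zero two_ne hc), one_mul, sub_self]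
  | zero => exact QuadraticMap.polar_zero_right ..
  | add x y _ _ hx hy => rw [QuadraticMap.polar_add_right, hx, hy, add_zero]
  | smul t x _ hx => rw [QuadraticMap.polar_smul_right, hx, smul_zero]

theorem ext_of_basis {g h : Iso Q} (H : ∀ i, act Q g (B.e i) = act Q h (B.e i)) : g = h := by
  refine ext_act Q fun x => ?_
  obtain ⟨a, rfl⟩ := B.exists_coords hQ hc x
  show g.1.1 *ᵥ _ = h.1.1 *ᵥ _
  rw [vec, Matrix.mulVec_sum, Matrix.mulVec_sum]
  refine Finset.sum_congr rfl fun i _ => ?_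
  rw [Matrix.mulVec_smul, Matrix.mulVec_smul]
  exact congrArg _ (H i)

end NBasis


theorem eq_smul_of_reflection {v x : 𝕍} (hv : Q v ≠ 0) (h : act Q (reflection hv) x = -x) :
    ∃ t : ZMod 3, x = t • v := by
  refine ⟨-((Q v)⁻¹ * polar (⇑Q) v x), ?_⟩
  rw [act_reflection] at h
  have h1 : x + x = ((Q v)⁻¹ * polar (⇑Q) v x) • v := by
    rw [eq_neg_iff_add_eq_zero] at h
    rw [← sub_eq_zero]
    rw [← h]
    abel
  have h2 : x + x = -x := by
    funext i
    show x i + x i = -(x i)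
    have : ∀ t : ZMod 3, t + t = -t := by decide
    exact this _
  rw [neg_smul, ← h1, h2, neg_neg]

theorem refl_mem {v : 𝕍} (hv : Q v = c) (hc : c ≠ 0) : reflection (Q := Q) (v := v) (hv ▸ hc) ∈ RG Q c :=
  subset_closure ((mem_norm_iff hc).2 ⟨v, hv, rfl⟩)

theorem refl_not_mem (hc : c ≠ 0) {v : 𝕍} (hv : Q v ≠ 0) (hne : Q v ≠ c) :
    reflection hv ∉ RG Q c := by
  intro hmem
  have hd : -c ≠ 0 := neg_ne_zero.2 hc
  have hsq : ∀ c t : ZMod 3, c ≠ 0 → t ≠ 0 → t ≠ c → IsSquare (-c * t) := by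
    intro c t h1 h2 h3
    refine ⟨1, ?_⟩
    revert c t
    decide
  have hns : ∀ c : ZMod 3, c ≠ 0 → ¬ IsSquare (-c * c) := by
    rintro c h1 ⟨r, hr⟩
    revert c r
    decide
  have hle : RG Q c ≤ (theta (Q := Q) (-c)).ker := (closure_le _).2 fun g hg => by
    obtain ⟨w, hw, rfl⟩ := (mem_norm_iff hc).1 hg
    exact theta_reflection_of_nonsquare two_ne hd _ (by rw [hw]; exact hns c hc)
  have h1 : theta (Q := Q) (-c) (reflection hv) = 1 := hle hmem
  rw [theta_reflection_of_square two_ne hd hv (hsq c _ hc hv hne)] at h1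
  exact absurd h1 (by decide)

variable (hQ : (QuadraticMap.polarBilin Q).Nondegenerate) (hc : c ≠ 0)

include hQ hc

theorem refl_mul_mem {v w : 𝕍} (hv : Q v ≠ 0) (hw : Q w ≠ 0) (h : Q v = Q w) :
    reflection hv * reflection hw ∈ RG Q c := by
  refine (mul_mem_iff_of_index_two (index_reflectionSubgroup (by norm_num) hQ hc)).2 ?_
  by_cases hvc : Q v = c
  · exact ⟨fun _ => refl_mem (h ▸ hvc) hc, fun _ => refl_mem hvc hc⟩
  · exact ⟨fun hm => absurd hm (refl_not_mem hc hv hvc),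
      fun hm => absurd hm (refl_not_mem hc hw (h ▸ hvc))⟩

/-- A central element acts as a sign. -/
theorem center_cases (hμ : Cfsg.polarGramDet (⇑Q) = 1) {z : Iso Q} (hz : z ∈ RG Q c)
    (hcen : ∀ g ∈ RG Q c, z * g = g * z) : z = 1 ∨ ∀ x, act Q z x = -x := by
  obtain ⟨B⟩ := exists_nbasis hQ hμ hc
  have hline : ∀ v, Q v = c → ∃ t : ZMod 3, act Q z v = t • v := by
    intro v hv
    refine eq_smul_of_reflection (hv ▸ hc) ?_
    have h := congrArg (fun g => act Q g v) (hcen _ (refl_mem hv hc))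
    simp only [act_mul, act_reflection_self, act_neg] at h
    exact h.symm
  choose t ht using fun i => hline (B.e i) (B.norm i)
  have hquad : ∀ a : Fin 6 → ZMod 3, ∑ i, a i * a i = 1 → ∀ i j, a i ≠ 0 → a j ≠ 0 → t i = t j := by
    intro a ha i j hi hj
    obtain ⟨s, hs⟩ := hline (B.vec a) (by rw [B.Q_vec, ha, mul_one])
    have hval : ∀ k, a k * t k = a k * s := by
      intro k
      have e1 : act Q z (B.vec a) = B.vec fun k => a k * t k := by
        simp only [NBasis.vec, act, Matrix.mulVec_sum, Matrix.mulVec_smul]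
        refine Finset.sum_congr rfl fun l _ => ?_
        rw [show z.1.1 *ᵥ B.e l = t l • B.e l from ht l, smul_smul]
      have h1 := congrArg (fun v => polar (⇑Q) (B.e k) v) (e1.symm.trans hs)
      simp only [B.polar_vec_e, QuadraticMap.polar_smul_right, smul_eq_mul] at h1
      refine mul_left_cancel₀ (mul_ne_zero two_ne hc) ?_
      linear_combination h1
    exact (mul_left_cancel₀ hi (hval i)).trans (mul_left_cancel₀ hj (hval j)).symm
  have hA : ∑ i, (![1, 1, 1, 1, 0, 0] : Fin 6 → ZMod 3) i * ![1, 1, 1, 1, 0, 0] i = 1 := by decide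
  have hB : ∑ i, (![1, 0, 0, 1, 1, 1] : Fin 6 → ZMod 3) i * ![1, 0, 0, 1, 1, 1] i = 1 := by decide
  have hall : ∀ i, t i = t 0 := by
    intro i
    fin_cases i
    · rfl
    · exact hquad _ hA _ _ (by decide) (by decide)
    · exact hquad _ hA _ _ (by decide) (by decide)
    · exact hquad _ hA _ _ (by decide) (by decide)
    · exact hquad _ hB _ _ (by decide) (by decide)
    · exact hquad _ hB _ _ (by decide) (by decide)
  have hsq : ∀ s : ZMod 3, s = 0 ∨ s = 1 ∨ s = -1 := by decide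
  rcases hsq (t 0) with h | h | h
  · exfalso
    have h1 := ht 0
    rw [h, zero_smul] at h1
    have := congrArg (⇑Q) h1
    rw [Q_act, B.norm, QuadraticMap.map_zero] at this
    exact hc this
  · exact Or.inl (B.ext_of_basis hQ hc fun i => by rw [ht, hall, h, one_smul, act_one])
  · right
    intro x
    obtain ⟨a, rfl⟩ := B.exists_coords hQ hc x
    simp only [NBasis.vec, act, Matrix.mulVec_sum, Matrix.mulVec_smul, ← Finset.sum_neg_distrib]
    refine Finset.sum_congr rfl fun l _ => ?_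
    rw [show z.1.1 *ᵥ B.e l = t l • B.e l from ht l, hall, h, neg_one_smul, smul_neg]

/-- The reflection at a vector of norm `c`, inside their group. -/
def rr {v : 𝕍} (hv : Q v = c) (hc : c ≠ 0) : ↥(RG Q c) :=
  ⟨reflection (v := v) (hv ▸ hc), refl_mem hv hc⟩

theorem center_cases' (hμ : Cfsg.polarGramDet (⇑Q) = 1) {z : ↥(RG Q c)} (hz : z ∈ center ↥(RG Q c)) :
    (z : Iso Q) = 1 ∨ ∀ x, act Q (z : Iso Q) x = -x :=
  center_cases hQ hc hμ z.2 fun g hg => (congrArg Subtype.val (mem_center_iff.1 hz ⟨g, hg⟩)).symm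

theorem det_center (hμ : Cfsg.polarGramDet (⇑Q) = 1) {z : ↥(RG Q c)} (hz : z ∈ center ↥(RG Q c)) :
    detHom (z : Iso Q) = 1 := by
  rcases center_cases' hQ hc hμ hz with h | h
  · rw [h, map_one]
  · apply Units.ext
    rw [detHom_coe, Units.val_one]
    have e : (z : Iso Q).1.1 = -1 := Matrix.toLin'.injective (LinearMap.ext fun x => by
      rw [Matrix.toLin'_apply, Matrix.toLin'_apply, Matrix.neg_mulVec, Matrix.one_mulVec]
      exact h x)
    rw [show (((z : Iso Q) : Matrix.GeneralLinearGroup (Fin 6) (ZMod 3)) : Matrix (Fin 6) (Fin 6) (ZMod 3))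
      = -1 from e, Matrix.det_neg, Matrix.det_one, Fintype.card_fin]
    decide

omit hQ hc in
theorem act_linear (g : Iso Q) :
    ∃ L : (Fin 6 → ZMod 3) →ₗ[ZMod 3] (Fin 6 → ZMod 3), (∀ x, L x = act Q g x) ∧
      LinearMap.det L = ((detHom g : (ZMod 3)ˣ) : ZMod 3) :=
  ⟨Matrix.toLin' g.1.1, fun x => Matrix.toLin'_apply _ x, by rw [LinearMap.det_toLin', detHom_coe]⟩

/-- An orthogonal basis of one of the eigenspaces of an involution. -/
theorem exists_eigen_basis (g : Iso Q) (hg : ∀ x, act Q g (act Q g x) = x) (s : ZMod 3) (hs : s * s = 1) :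
    ∃ (W : Submodule (ZMod 3) 𝕍) (k : ℕ) (b : Module.Basis (Fin k) (ZMod 3) W),
      (∀ x, x ∈ W ↔ act Q g x = s • x) ∧ (∀ i j, i ≠ j → polar (⇑Q) (b i : 𝕍) (b j) = 0) ∧
      ∀ i, Q (b i : 𝕍) ≠ 0 := by
  obtain ⟨L, hL, -⟩ := act_linear (Q := Q) g
  let W := LinearMap.ker (L - s • LinearMap.id)
  have hW : ∀ x, x ∈ W ↔ act Q g x = s • x := fun x => by
    simp [W, LinearMap.mem_ker, sub_eq_zero, hL]
  haveI : Invertible (2 : ZMod 3) := invertibleOfNonzero two_ne
  let Bf : LinearMap.BilinForm (ZMod 3) W := (QuadraticMap.polarBilin Q).compl₁₂ W.subtype W.subtype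
  have hsym : LinearMap.IsSymm Bf := ⟨fun x y => polar_comm' Q (x : 𝕍) (y : 𝕍)⟩
  obtain ⟨b, hb⟩ := LinearMap.BilinForm.exists_orthogonal_basis hsym
  refine ⟨W, _, b, hW, fun i j hij => hb hij, fun i h0 => ?_⟩
  have hin : ∀ y : W, polar (⇑Q) (b i : 𝕍) y = 0 := by
    intro y
    rw [← b.sum_repr y, Submodule.coe_sum]
    simp only [Submodule.coe_smul]
    rw [polar_sum_k]
    refine Finset.sum_eq_zero fun j _ => ?_
    by_cases hij : i = j
    · subst hij; rw [polar_self', h0, mul_zero, mul_zero]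
    · have : polar (⇑Q) (b i : 𝕍) (b j) = 0 := hb hij
      rw [this, mul_zero]
  refine b.ne_zero i (Subtype.ext (eq_zero_of_polar hQ fun y => ?_))
  have h1 : act Q g (y + s • act Q g y) = s • (y + s • act Q g y) := by
    rw [act_add, act_smul, hg, smul_add, smul_smul, hs, one_smul, add_comm]
  have h2 := hin ⟨_, (hW _).2 h1⟩
  have h3 : polar (⇑Q) (b i : 𝕍) (act Q g y) = s * polar (⇑Q) (b i : 𝕍) y := by
    have h4 := polar_act Q g (b i : 𝕍) y
    rw [(hW _).1 (b i).2, QuadraticMap.polar_smul_left, smul_eq_mul] at h4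
    rw [← h4, ← mul_assoc, hs, one_mul]
  simp only [QuadraticMap.polar_add_right, QuadraticMap.polar_smul_right, smul_eq_mul, h3] at h2
  rw [← mul_assoc, hs, one_mul] at h2
  have hz : ∀ t : ZMod 3, t + t = 0 → t = 0 := by decide
  exact hz _ h2

omit hQ hc in
/-- Two blocks give a conjugate with product of order six. -/
theorem bad_blocks {k₁ k₂ : ZMod 3} (a₁ a₂ b₁ b₂ : 𝕍) (g : Iso Q)
    (hga₁ : act Q g a₁ = -a₁) (hga₂ : act Q g a₂ = -a₂) (hgb₁ : act Q g b₁ = b₁)
    (hgb₂ : act Q g b₂ = b₂) (ha₁0 : a₁ ≠ 0) (hb₁0 : b₁ ≠ 0) (ha₂0 : a₂ ≠ 0) (hb₂0 : b₂ ≠ 0)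
    (ha₁ : Q a₁ = 0) (hb₁ : Q b₁ = k₁) (ha₂ : Q a₂ = k₂) (hb₂ : Q b₂ = k₂) (hk : k₂ = -k₁)
    (hk0 : k₁ ≠ 0) (haa : polar (⇑Q) a₁ a₂ = 0) (hbb : polar (⇑Q) b₁ b₂ = 0)
    (hab : ∀ a ∈ [a₁, a₂], ∀ b ∈ [b₁, b₂], polar (⇑Q) a b = 0) (hgg : g * g = 1) :
    ∃ (v₁ v₂ : 𝕍) (h₁ : Q v₁ = k₁) (h₂ : Q v₂ = k₁) (X A B : Iso Q),
      X = g * (reflection (v := v₂) (h₂ ▸ hk0) * reflection (v := v₁) (h₁ ▸ hk0) * g *
        (reflection (v := v₂) (h₂ ▸ hk0) * reflection (v := v₁) (h₁ ▸ hk0))⁻¹) ∧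
      X = A * B ∧ Commute A B ∧ A ^ 3 = 1 ∧ B ^ 2 = 1 ∧ A ≠ 1 ∧ B ≠ 1 ∧
      act Q A v₂ = v₂ ∧ act Q B v₁ = v₁ := by
  have p11 := hab a₁ (by simp) b₁ (by simp)
  have p12 := hab a₁ (by simp) b₂ (by simp)
  have p21 := hab a₂ (by simp) b₁ (by simp)
  have p22 := hab a₂ (by simp) b₂ (by simp)
  have h₁ : Q (a₁ + b₁) = k₁ := by rw [map_add', ha₁, hb₁, p11, zero_add, add_zero]
  have hv2 : ∀ t : ZMod 3, -t + -t = t := by decide
  have h₂ : Q (a₂ + b₂) = k₁ := by rw [map_add', ha₂, hb₂, p22, add_zero, hk, hv2]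
  have gv₁ : act Q g (a₁ + b₁) = -a₁ + b₁ := by rw [act_add, hga₁, hgb₁]
  have gv₂ : act Q g (a₂ + b₂) = -a₂ + b₂ := by rw [act_add, hga₂, hgb₂]
  have hn₁ : Q (act Q g (a₁ + b₁)) = k₁ := by rw [Q_act, h₁]
  have hn₂ : Q (act Q g (a₂ + b₂)) = k₁ := by rw [Q_act, h₂]
  set r₁ := reflection (Q := Q) (v := a₁ + b₁) (h₁ ▸ hk0) with hr₁
  set r₂ := reflection (Q := Q) (v := a₂ + b₂) (h₂ ▸ hk0) with hr₂
  set s₁ := reflection (Q := Q) (v := act Q g (a₁ + b₁)) (hn₁ ▸ hk0) with hs₁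
  set s₂ := reflection (Q := Q) (v := act Q g (a₂ + b₂)) (hn₂ ▸ hk0) with hs₂
  have o11 : polar (⇑Q) (act Q g (a₁ + b₁)) (a₁ + b₁) ≠ 0 := by
    rw [gv₁, QuadraticMap.polar_add_left, QuadraticMap.polar_neg_left, QuadraticMap.polar_add_right,
      QuadraticMap.polar_add_right, polar_self', polar_self', ha₁, hb₁, p11,
      polar_comm' Q b₁ a₁, p11]
    simpa using mul_ne_zero two_ne hk0
  have o22 : polar (⇑Q) (act Q g (a₂ + b₂)) (a₂ + b₂) = 0 := by
    rw [gv₂, QuadraticMap.polar_add_left, QuadraticMap.polar_neg_left, QuadraticMap.polar_add_right,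
      QuadraticMap.polar_add_right, polar_self', polar_self', ha₂, hb₂, p22,
      polar_comm' Q b₂ a₂, p22]
    ring
  have o12 : polar (⇑Q) (a₁ + b₁) (a₂ + b₂) = 0 := by
    rw [QuadraticMap.polar_add_left, QuadraticMap.polar_add_right, QuadraticMap.polar_add_right,
      haa, hbb, p12, polar_comm' Q b₁ a₂, p21]
    simp
  have o1g2 : polar (⇑Q) (a₁ + b₁) (act Q g (a₂ + b₂)) = 0 := by
    rw [gv₂, QuadraticMap.polar_add_left, QuadraticMap.polar_add_right, QuadraticMap.polar_add_right,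
      QuadraticMap.polar_neg_right, QuadraticMap.polar_neg_right, haa, hbb, p12, polar_comm' Q b₁ a₂, p21]
    simp
  have og12 : polar (⇑Q) (act Q g (a₁ + b₁)) (a₂ + b₂) = 0 := by
    rw [gv₁, QuadraticMap.polar_add_left, QuadraticMap.polar_add_right, QuadraticMap.polar_add_right,
      QuadraticMap.polar_neg_left, QuadraticMap.polar_neg_left, haa, hbb, p12, polar_comm' Q b₁ a₂, p21]
    simp
  have ogg : polar (⇑Q) (act Q g (a₁ + b₁)) (act Q g (a₂ + b₂)) = 0 := by rw [polar_act, o12]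
  have c_s2r1 : Commute s₂ r₁ := commute_of_polar hk0 hn₂ h₁ ((polar_comm' Q _ _).trans o1g2)
  have c_s2s1 : Commute s₂ s₁ := commute_of_polar hk0 hn₂ hn₁ ((polar_comm' Q _ _).trans ogg)
  have c_s2r2 : Commute s₂ r₂ := commute_of_polar hk0 hn₂ h₂ o22
  have c_r2r1 : Commute r₂ r₁ := commute_of_polar hk0 h₂ h₁ ((polar_comm' Q _ _).trans o12)
  have c_r2s1 : Commute r₂ s₁ := commute_of_polar hk0 h₂ hn₁ ((polar_comm' Q _ _).trans og12)
  have hgi : g⁻¹ = g := inv_eq_of_mul_eq_one_right hgg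
  have e1 : g * r₁ * g = s₁ := by
    conv_lhs => arg 2; rw [← hgi]
    rw [hr₁, conj_reflection]
  have e2 : g * r₂ * g = s₂ := by
    conv_lhs => arg 2; rw [← hgi]
    rw [hr₂, conj_reflection]
  refine ⟨_, _, h₁, h₂, _, s₁ * r₁, s₂ * r₂, rfl, ?_,
    (c_s2s1.symm.mul_right c_r2s1.symm).mul_left (c_s2r1.symm.mul_right c_r2r1.symm), ?_, ?_, ?_, ?_, ?_, ?_⟩
  · rw [← hr₁, ← hr₂, _root_.mul_inv_rev, inv_eq_of_mul_eq_one_right (reflection_mul_self _),
      inv_eq_of_mul_eq_one_right (reflection_mul_self _)]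
    calc g * (r₂ * r₁ * g * (r₁ * r₂)) = (g * r₂) * ((g * g) * r₁) * g * r₁ * r₂ := by
          rw [hgg, one_mul]; simp only [mul_assoc]
      _ = (g * r₂ * g) * (g * r₁ * g) * r₁ * r₂ := by simp only [mul_assoc]
      _ = s₂ * (s₁ * r₁) * r₂ := by rw [e1, e2]; simp only [mul_assoc]
      _ = s₁ * r₁ * s₂ * r₂ := by rw [(c_s2s1.mul_right c_s2r1).eq]
      _ = s₁ * r₁ * (s₂ * r₂) := mul_assoc _ _ _
  · have hb := conj_eq_conj_of_polar hk0 hn₁ h₁ o11
    rw [inv_eq_of_mul_eq_one_right (reflection_mul_self _),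
      inv_eq_of_mul_eq_one_right (reflection_mul_self _)] at hb
    calc (s₁ * r₁) ^ 3 = (s₁ * r₁ * s₁) * (r₁ * s₁ * r₁) := by
          simp only [pow_succ, pow_zero, one_mul, mul_assoc]
      _ = (s₁ * r₁ * s₁) * (s₁ * r₁ * s₁) := by rw [hb]
      _ = s₁ * r₁ * (s₁ * s₁) * r₁ * s₁ := by simp only [mul_assoc]
      _ = s₁ * (r₁ * r₁) * s₁ := by rw [hs₁, reflection_mul_self, mul_one]; simp only [mul_assoc]
      _ = 1 := by rw [hr₁, reflection_mul_self, mul_one, hs₁, reflection_mul_self]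
  · rw [c_s2r2.mul_pow, pow_two, pow_two, hs₂, reflection_mul_self, hr₂, reflection_mul_self, one_mul]
  · intro h
    have h' : s₁ = r₁ := by
      rw [← mul_one s₁, ← reflection_mul_self (v := a₁ + b₁) (h₁ ▸ hk0), ← mul_assoc, ← hr₁, h, one_mul]
    have hv : act Q s₁ (a₁ + b₁) = -(a₁ + b₁) := by rw [h']; exact act_reflection_self _
    obtain ⟨t, ht⟩ := eq_smul_of_reflection _ hv
    rw [gv₁] at ht
    have hta : polar (⇑Q) b₁ (a₁ + b₁) = t * polar (⇑Q) b₁ (-a₁ + b₁) := by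
      rw [ht, QuadraticMap.polar_smul_right, smul_eq_mul]
    simp only [QuadraticMap.polar_add_right, QuadraticMap.polar_neg_right, polar_comm' Q b₁ a₁, p11,
      polar_self', hb₁, neg_zero, zero_add] at hta
    have ht1 : t = 1 := mul_right_cancel₀ (mul_ne_zero two_ne hk0) (hta.symm.trans (one_mul _).symm)
    rw [ht1, one_smul, add_left_inj] at ht
    have h2 : ∀ u : ZMod 3, u = -u → u = 0 := by decide
    exact ha₁0 (funext fun i => h2 _ (congrFun ht i))
  · intro h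
    have h' : s₂ = r₂ := by
      rw [← mul_one s₂, ← reflection_mul_self (v := a₂ + b₂) (h₂ ▸ hk0), ← mul_assoc, ← hr₂, h, one_mul]
    have hv : act Q s₂ (a₂ + b₂) = -(a₂ + b₂) := by rw [h']; exact act_reflection_self _
    rw [act_reflection_of_ortho _ o22] at hv
    have h2 : ∀ u : ZMod 3, u = -u → u = 0 := by decide
    have h0 : a₂ + b₂ = 0 := funext fun i => h2 _ (congrFun hv i)
    rw [h0, QuadraticMap.map_zero] at h₂
    exact hk0 h₂.symm
  · rw [act_mul, act_reflection_of_ortho _ o12, act_reflection_of_ortho _ og12]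
  · rw [act_mul, act_reflection_of_ortho _ ((polar_comm' Q _ _).trans o12),
      act_reflection_of_ortho _ ((polar_comm' Q _ _).trans o1g2)]

set_option maxHeartbeats 1600000 in
set_option synthInstance.maxSize 3000 in
set_option synthInstance.maxHeartbeats 400000 in
/-- A class of 3-transpositions of the quotient consists of the reflections. -/
theorem class_is_refl (hμ : Cfsg.polarGramDet (⇑Q) = 1)
    {E : Set (↥(RG Q c) ⧸ center ↥(RG Q c))} (hE : Cfsg.IsThreeTranspositionClass E) :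
    E = (QuotientGroup.mk' (center ↥(RG Q c))) '' classInGroup Q c := by
  have hD := isThreeTranspositionClass (by norm_num : 5 ≤ 6) hQ hc
  set π := QuotientGroup.mk' (center ↥(RG Q c)) with hπ
  obtain ⟨hset, ⟨x, hxE, hxcl⟩, hgen⟩ := hE
  suffices h : ∃ r ∈ classInGroup Q c, π r = x by
    obtain ⟨r, hr, rfl⟩ := h
    obtain ⟨r0, -, hcl⟩ := hD.2.1
    ext y
    rw [hxcl]
    constructor
    · intro hy
      obtain ⟨q, rfl⟩ := isConj_iff.1 (hy : IsConj (π r) y)
      obtain ⟨q, rfl⟩ := QuotientGroup.mk'_surjective _ q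
      refine ⟨q * r * q⁻¹, ?_, by simp [hπ]⟩
      rw [hcl] at hr ⊢
      exact IsConj.trans hr (isConj_iff.2 ⟨q, rfl⟩)
    · rintro ⟨r', hr', rfl⟩
      rw [hcl] at hr hr'
      exact π.map_isConj ((IsConj.symm hr).trans hr')
  obtain ⟨g, rfl⟩ := QuotientGroup.mk'_surjective _ x
  have hx1 : π g ≠ 1 := fun h => by
    have := hset.1 _ hxE
    rw [show (QuotientGroup.mk' (center ↥(RG Q c))) g = 1 from h, orderOf_one] at this
    exact absurd this (by norm_num)
  -- determinant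
  let δ : ↥(RG Q c) ⧸ center ↥(RG Q c) →* (ZMod 3)ˣ :=
    QuotientGroup.lift _ ((detHom (Q := Q)).comp (RG Q c).subtype) fun z hz => det_center hQ hc hμ hz
  have hdet : detHom (g : Iso Q) = -1 := by
    have hu : ∀ u : (ZMod 3)ˣ, u = 1 ∨ u = -1 := by decide
    refine (hu _).resolve_left fun h1 => ?_
    have hall : (⊤ : Subgroup _) ≤ δ.ker := by
      rw [← hgen, closure_le]
      intro y hy
      rw [hxcl] at hy
      obtain ⟨q, rfl⟩ := isConj_iff.1 hy
      have : δ (π g) = 1 := h1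
      rw [SetLike.mem_coe, MonoidHom.mem_ker, map_mul, map_mul, map_inv, this, mul_one, mul_inv_cancel]
    obtain ⟨B⟩ := exists_nbasis hQ hμ hc
    have := hall (mem_top (π (rr (B.norm 0) hc)))
    rw [MonoidHom.mem_ker] at this
    have h2 : detHom (reflection (Q := Q) (v := B.e 0) ((B.norm 0).symm ▸ hc)) = 1 := this
    rw [detHom_reflection] at h2
    exact absurd h2 (by decide)
  -- the square
  have hsq : (g * g : ↥(RG Q c)) ∈ center ↥(RG Q c) := by
    rw [← QuotientGroup.eq_one_iff]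
    have := pow_orderOf_eq_one (π g)
    rw [hset.1 _ hxE, pow_two, ← map_mul] at this
    exact this
  have hgg : (g : Iso Q) * g = 1 := by
    refine (center_cases' hQ hc hμ hsq).resolve_right fun h => ?_
    set M := (g : Iso Q).1.1 with hM
    have e : M * M = -1 := Matrix.toLin'.injective (LinearMap.ext fun y => by
      rw [Matrix.toLin'_apply, Matrix.toLin'_apply, Matrix.neg_mulVec, Matrix.one_mulVec,
        ← Matrix.mulVec_mulVec]
      exact (act_mul Q (g : Iso Q) g y).symm.trans (h y))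
    have h2 : (1 + M) * (1 + M) = (2 : ZMod 3) • M := by
      rw [add_mul, mul_add, mul_add, e, one_mul, one_mul, mul_one, two_smul]; abel
    have h3 := congrArg Matrix.det h2
    rw [Matrix.det_mul, Matrix.det_smul, Fintype.card_fin] at h3
    have hdM : M.det = -1 := by
      have := congrArg Units.val hdet
      rwa [detHom_coe, Units.val_neg, Units.val_one] at this
    rw [hdM] at h3
    have : ∀ d : ZMod 3, d * d ≠ (2 : ZMod 3) ^ 6 * -1 := by decide
    exact this _ h3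
  have hinv : ∀ y, act Q (g : Iso Q) (act Q (g : Iso Q) y) = y := fun y => by
    rw [← act_mul, hgg, act_one]
  obtain ⟨W, a, bW, hW, hWo, hWn⟩ := exists_eigen_basis hQ hc (g : Iso Q) hinv (-1) (by ring)
  obtain ⟨U, b, bU, hU, hUo, hUn⟩ := exists_eigen_basis hQ hc (g : Iso Q) hinv 1 (by ring)
  have h4 : ∀ t : ZMod 3, t = 2 * t + 2 * t := by decide
  have hcompl : IsCompl W U := by
    constructor
    · rw [Submodule.disjoint_def]
      intro y hyW hyU
      have h5 := ((hW y).1 hyW).symm.trans ((hU y).1 hyU)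
      rw [neg_smul, one_smul] at h5
      have h2 : ∀ u : ZMod 3, -u = u → u = 0 := by decide
      exact funext fun i => h2 _ (congrFun h5 i)
    · rw [codisjoint_iff, eq_top_iff]
      intro y _
      refine Submodule.mem_sup.2 ⟨(2 : ZMod 3) • (y - act Q (g : Iso Q) y), (hW _).2 ?_,
        (2 : ZMod 3) • (y + act Q (g : Iso Q) y), (hU _).2 ?_, ?_⟩
      · rw [act_smul, act_sub, hinv, neg_smul, one_smul, ← smul_neg, neg_sub]
      · rw [act_smul, act_add, hinv, one_smul, add_comm]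
      · rw [← smul_add, show y - act Q (g : Iso Q) y + (y + act Q (g : Iso Q) y) = (2 : ZMod 3) • y by
          rw [two_smul]; abel, smul_smul, show (2 : ZMod 3) * 2 = 1 by decide, one_smul]
  let Bs := (bW.prod bU).map (W.prodEquivOfIsCompl U hcompl)
  have hab : a + b = 6 := by
    have h := Module.finrank_eq_card_basis Bs
    simpa using h.symm
  have hBl : ∀ i, Bs (Sum.inl i) = (bW i : 𝕍) := fun i => by simp [Bs]
  have hBr : ∀ i, Bs (Sum.inr i) = (bU i : 𝕍) := fun i => by simp [Bs]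
  obtain ⟨L, hL, hLd⟩ := act_linear (Q := Q) (g : Iso Q)
  have hdiag : LinearMap.det L = (-1) ^ a := by
    rw [← LinearMap.det_toMatrix Bs L]
    have : LinearMap.toMatrix Bs Bs L =
        Matrix.diagonal (Sum.elim (fun _ : Fin a => (-1 : ZMod 3)) fun _ : Fin b => 1) := by
      ext i j
      have hj : L (Bs j) = (Sum.elim (fun _ : Fin a => (-1 : ZMod 3)) (fun _ : Fin b => 1) j) • Bs j := by
        rcases j with j | j
        · rw [hBl, hL]; exact (hW _).1 (bW j).2
        · rw [hBr, hL]; exact (hU _).1 (bU j).2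
      rw [LinearMap.toMatrix_apply, hj, map_smul, Bs.repr_self, Finsupp.smul_apply, Matrix.diagonal_apply,
        Finsupp.single_apply]
      by_cases hij : i = j
      · subst hij; simp
      · simp [hij, Ne.symm hij]
    rw [this, Matrix.det_diagonal, Fintype.prod_sum_type]
    simp
  have hodd : Odd a := by
    by_contra h
    rw [Nat.not_odd_iff_even] at h
    rw [hdiag, h.neg_one_pow, hdet, Units.val_neg, Units.val_one] at hLd
    exact absurd hLd (by decide)
  have hortho : ∀ u ∈ W, ∀ v ∈ U, polar (⇑Q) u v = 0 := by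
    intro u hu v hv
    have h6 := polar_act Q (g : Iso Q) u v
    rw [(hW u).1 hu, (hU v).1 hv, neg_smul, one_smul, one_smul, QuadraticMap.polar_neg_left] at h6
    have : ∀ t : ZMod 3, -t = t → t = 0 := by decide
    exact this _ h6
  have ext' : ∀ (h : Iso Q), (∀ i, act Q h (bW i) = -(bW i : 𝕍)) → (∀ i, act Q h (bU i) = bU i) →
      h = g := by
    intro h h1 h2
    obtain ⟨M, hM, -⟩ := act_linear (Q := Q) h
    have : M = L := Bs.ext fun j => by
      rcases j with j | j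
      · rw [hBl, hM, hL, h1, (hW _).1 (bW j).2, neg_smul, one_smul]
      · rw [hBr, hM, hL, h2, (hU _).1 (bU j).2, one_smul]
    exact ext_act Q fun y => by rw [← hM, ← hL, this]
  have hcases : a = 1 ∨ a = 3 ∨ a = 5 := by obtain ⟨m, hm⟩ := hodd; omega
  rcases hcases with rfl | rfl | rfl
  · have h7 : reflection (hWn 0) = (g : Iso Q) := ext' _ (fun i => by
      rw [Subsingleton.elim i 0]; exact act_reflection_self _) fun i =>
      act_reflection_of_ortho _ (hortho _ (bW 0).2 _ (bU i).2)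
    by_cases hn : Q (bW 0 : 𝕍) = c
    · refine ⟨g, ?_, rfl⟩
      show (g : Iso Q) ∈ Cfsg.reflectionsOfNorm (⇑Q) c
      exact (mem_norm_iff hc).2 ⟨_, hn, h7.symm⟩
    · exact absurd g.2 (h7 ▸ refl_not_mem hc (hWn 0) hn)
  · obtain rfl : b = 3 := by omega
    have fW : ∀ t₀ t₁ t₂ : ZMod 3, t₀ ≠ 0 → t₁ ≠ 0 → t₂ ≠ 0 → ∃ x₀ x₁ x₂ y₀ y₁ y₂ : ZMod 3,
        ¬ (x₀ = 0 ∧ x₁ = 0 ∧ x₂ = 0) ∧ x₀ * x₀ * t₀ + x₁ * x₁ * t₁ + x₂ * x₂ * t₂ = 0 ∧
        x₀ * y₀ * t₀ + x₁ * y₁ * t₁ + x₂ * y₂ * t₂ = 0 ∧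
        y₀ * y₀ * t₀ + y₁ * y₁ * t₁ + y₂ * y₂ * t₂ ≠ 0 := by decide
    have fU : ∀ t₀ t₁ t₂ e : ZMod 3, t₀ ≠ 0 → t₁ ≠ 0 → t₂ ≠ 0 → e ≠ 0 →
        ∃ x₀ x₁ x₂ y₀ y₁ y₂ : ZMod 3, x₀ * x₀ * t₀ + x₁ * x₁ * t₁ + x₂ * x₂ * t₂ = -e ∧
        x₀ * y₀ * t₀ + x₁ * y₁ * t₁ + x₂ * y₂ * t₂ = 0 ∧
        y₀ * y₀ * t₀ + y₁ * y₁ * t₁ + y₂ * y₂ * t₂ = e := by decide
    obtain ⟨x₀, x₁, x₂, y₀, y₁, y₂, hx, hxx, hxy, hyy⟩ :=
      fW (Q (bW 0 : 𝕍)) (Q (bW 1 : 𝕍)) (Q (bW 2 : 𝕍)) (hWn 0) (hWn 1) (hWn 2)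
    obtain ⟨p₀, p₁, p₂, q₀, q₁, q₂, hpp, hpq, hqq⟩ :=
      fU (Q (bU 0 : 𝕍)) (Q (bU 1 : 𝕍)) (Q (bU 2 : 𝕍)) _ (hUn 0) (hUn 1) (hUn 2) hyy
    have expand : ∀ (f : Fin 3 → 𝕍), (∀ i j, i ≠ j → polar (⇑Q) (f i) (f j) = 0) →
        ∀ u₀ u₁ u₂ v₀ v₁ v₂ : ZMod 3,
        polar (⇑Q) (u₀ • f 0 + u₁ • f 1 + u₂ • f 2) (v₀ • f 0 + v₁ • f 1 + v₂ • f 2) =
          2 * (u₀ * v₀ * Q (f 0) + u₁ * v₁ * Q (f 1) + u₂ * v₂ * Q (f 2)) := by
      intro f hf u₀ u₁ u₂ v₀ v₁ v₂
      simp only [QuadraticMap.polar_add_left, QuadraticMap.polar_add_right,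
        QuadraticMap.polar_smul_left, QuadraticMap.polar_smul_right, smul_eq_mul, polar_self',
        hf 0 1 (by decide), hf 0 2 (by decide), hf 1 2 (by decide), hf 1 0 (by decide),
        hf 2 0 (by decide), hf 2 1 (by decide)]
      ring
    have qexp : ∀ (f : Fin 3 → 𝕍), (∀ i j, i ≠ j → polar (⇑Q) (f i) (f j) = 0) →
        ∀ u₀ u₁ u₂ : ZMod 3, Q (u₀ • f 0 + u₁ • f 1 + u₂ • f 2) =
          u₀ * u₀ * Q (f 0) + u₁ * u₁ * Q (f 1) + u₂ * u₂ * Q (f 2) := fun f hf u₀ u₁ u₂ => by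
      have h8 := expand f hf u₀ u₁ u₂ u₀ u₁ u₂
      rw [polar_self'] at h8
      exact mul_left_cancel₀ two_ne h8
    let fw : Fin 3 → 𝕍 := fun i => (bW i : 𝕍)
    let fu : Fin 3 → 𝕍 := fun i => (bU i : 𝕍)
    have memW : ∀ u₀ u₁ u₂ : ZMod 3, u₀ • fw 0 + u₁ • fw 1 + u₂ • fw 2 ∈ W := fun u₀ u₁ u₂ =>
      W.add_mem (W.add_mem (W.smul_mem _ (bW 0).2) (W.smul_mem _ (bW 1).2)) (W.smul_mem _ (bW 2).2)
    have memU : ∀ u₀ u₁ u₂ : ZMod 3, u₀ • fu 0 + u₁ • fu 1 + u₂ • fu 2 ∈ U := fun u₀ u₁ u₂ =>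
      U.add_mem (U.add_mem (U.smul_mem _ (bU 0).2) (U.smul_mem _ (bU 1).2)) (U.smul_mem _ (bU 2).2)
    set a₁ := x₀ • fw 0 + x₁ • fw 1 + x₂ • fw 2 with ha₁def
    set a₂ := y₀ • fw 0 + y₁ • fw 1 + y₂ • fw 2 with ha₂def
    set b₁ := p₀ • fu 0 + p₁ • fu 1 + p₂ • fu 2 with hb₁def
    set b₂ := q₀ • fu 0 + q₁ • fu 1 + q₂ • fu 2 with hb₂def
    have hQb₁ : Q b₁ = -(Q a₂) := by rw [hb₁def, qexp fu hUo, hpp, ha₂def, qexp fw hWo]
    have hQb₂ : Q b₂ = Q a₂ := by rw [hb₂def, qexp fu hUo, hqq, ha₂def, qexp fw hWo]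
    have hQa₂ : Q a₂ ≠ 0 := by rw [ha₂def, qexp fw hWo]; exact hyy
    have ha₁0 : a₁ ≠ 0 := by
      intro h
      apply hx
      have hli : LinearIndependent (ZMod 3) fw := bW.linearIndependent.map' W.subtype W.ker_subtype
      have h9 := Fintype.linearIndependent_iff.1 hli ![x₀, x₁, x₂] (by
        rw [Fin.sum_univ_three]; exact h)
      exact ⟨h9 0, h9 1, h9 2⟩
    have nz : ∀ {v : 𝕍}, Q v ≠ 0 → v ≠ 0 := fun {v} h h0 => h (by rw [h0, QuadraticMap.map_zero])
    have hgW : ∀ {v}, v ∈ W → act Q (g : Iso Q) v = -v := fun {v} hv => by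
      rw [(hW v).1 hv, neg_smul, one_smul]
    have hgU : ∀ {v}, v ∈ U → act Q (g : Iso Q) v = v := fun {v} hv => by
      rw [(hU v).1 hv, one_smul]
    obtain ⟨v₁, v₂, h₁, h₂, X, A, B, hX, hAB, cAB, hA3, hB2, hA1, hB1, hAv, hBv⟩ :=
      bad_blocks (k₁ := -(Q a₂)) (k₂ := Q a₂) a₁ a₂ b₁ b₂ (g : Iso Q) (hgW (memW _ _ _))
        (hgW (memW _ _ _)) (hgU (memU _ _ _)) (hgU (memU _ _ _)) ha₁0
        (nz (hQb₁ ▸ neg_ne_zero.2 hQa₂)) (nz hQa₂) (nz (hQb₂ ▸ hQa₂))
        (by rw [ha₁def, qexp fw hWo]; exact hxx) hQb₁ rfl hQb₂ (neg_neg _).symm (neg_ne_zero.2 hQa₂)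
        (by rw [ha₁def, ha₂def, expand fw hWo, hxy, mul_zero])
        (by rw [hb₁def, hb₂def, expand fu hUo, hpq, mul_zero])
        (by
          intro u hu v hv
          simp only [List.mem_cons, List.not_mem_nil, or_false] at hu hv
          rcases hu with rfl | rfl <;> rcases hv with rfl | rfl <;>
            exact hortho _ (memW _ _ _) _ (memU _ _ _))
        hgg
    set k : ↥(RG Q c) := ⟨_, refl_mul_mem hQ hc (v := v₂) (w := v₁) (h₂ ▸ neg_ne_zero.2 hQa₂)
      (h₁ ▸ neg_ne_zero.2 hQa₂) (h₂.trans h₁.symm)⟩ with hk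
    have hconjE : π (k * g * k⁻¹) ∈ E := by
      rw [hxcl]
      exact π.map_isConj (isConj_iff.2 ⟨k, rfl⟩)
    have hXv : ((g * (k * g * k⁻¹) : ↥(RG Q c)) : Iso Q) = X := by rw [hX, hk]; rfl
    have hv10 : v₁ ≠ 0 := nz (h₁ ▸ neg_ne_zero.2 hQa₂)
    have hv20 : v₂ ≠ 0 := nz (h₂ ▸ neg_ne_zero.2 hQa₂)
    have hneg : ∀ {v : 𝕍}, v = -v → v = 0 := fun {v} h => by
      have h2 : ∀ u : ZMod 3, u = -u → u = 0 := by decide
      exact funext fun i => h2 _ (congrFun h i)
    rcases hset.2 _ hxE _ hconjE with h | h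
    · exfalso
      rw [← map_mul, ← map_pow] at h
      have hm : (g * (k * g * k⁻¹)) ^ 2 ∈ center ↥(RG Q c) := (QuotientGroup.eq_one_iff _).1 h
      have e : (((g * (k * g * k⁻¹)) ^ 2 : ↥(RG Q c)) : Iso Q) = A * A := by
        rw [SubmonoidClass.coe_pow, hXv, hAB, cAB.mul_pow, hB2, mul_one, pow_two]
      rcases center_cases' hQ hc hμ hm with h' | h'
      · rw [e] at h'
        refine hA1 ?_
        rw [pow_succ, pow_two, h', one_mul] at hA3
        exact hA3
      · have h5 := h' v₂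
        rw [e, act_mul, hAv, hAv] at h5
        exact hv20 (hneg h5)
    · exfalso
      rw [← map_mul, ← map_pow] at h
      have hm : (g * (k * g * k⁻¹)) ^ 3 ∈ center ↥(RG Q c) := (QuotientGroup.eq_one_iff _).1 h
      have e : (((g * (k * g * k⁻¹)) ^ 3 : ↥(RG Q c)) : Iso Q) = B := by
        rw [SubmonoidClass.coe_pow, hXv, hAB, cAB.mul_pow, hA3, one_mul, pow_succ, hB2, one_mul]
      rcases center_cases' hQ hc hμ hm with h' | h'
      · exact hB1 (e ▸ h')
      · have h5 := h' v₁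
        rw [e, hBv] at h5
        exact hv10 (hneg h5)
  · obtain rfl : b = 1 := by omega
    obtain ⟨B⟩ := exists_nbasis hQ hμ hc
    set Z : ↥(RG Q c) := rr (B.norm 0) hc * rr (B.norm 1) hc * rr (B.norm 2) hc * rr (B.norm 3) hc *
      rr (B.norm 4) hc * rr (B.norm 5) hc with hZ
    have hZact : ∀ y, act Q (Z : Iso Q) y = -y := by
      intro y
      obtain ⟨w, rfl⟩ := B.exists_coords hQ hc y
      simp only [NBasis.vec, act, Matrix.mulVec_sum, Matrix.mulVec_smul, ← Finset.sum_neg_distrib]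
      refine Finset.sum_congr rfl fun i _ => ?_
      rw [← smul_neg]
      refine congrArg _ ?_
      show act Q (Z : Iso Q) (B.e i) = -B.e i
      simp only [hZ, Subgroup.coe_mul, rr, act_mul]
      have o : ∀ j l, j ≠ l → act Q (reflection (Q := Q) (v := B.e j) ((B.norm j).symm ▸ hc)) (B.e l) =
          B.e l := fun j l h => act_reflection_of_ortho _ (B.orth j l h)
      have s : ∀ j, act Q (reflection (Q := Q) (v := B.e j) ((B.norm j).symm ▸ hc)) (B.e j) =
          -B.e j := fun j => act_reflection_self _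
      fin_cases i <;> simp [o, s, act_neg]
    have hZc : Z ∈ center ↥(RG Q c) := mem_center_iff.2 fun h => Subtype.ext (ext_act Q fun y => by
      show act Q ((h : Iso Q) * (Z : Iso Q)) y = act Q ((Z : Iso Q) * (h : Iso Q)) y
      rw [act_mul, act_mul, hZact, hZact, act_neg])
    have h7 : (Z : Iso Q) * reflection (hUn 0) = (g : Iso Q) := ext' _ (fun i => by
        rw [act_mul, hZact,
          act_reflection_of_ortho _ ((polar_comm' Q _ _).trans (hortho _ (bW i).2 _ (bU 0).2))])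
      fun i => by
        rw [act_mul, hZact, Subsingleton.elim i 0, act_reflection_self, neg_neg]
    by_cases hn : Q (bU 0 : 𝕍) = c
    · refine ⟨rr hn hc, (mem_norm_iff hc).2 ⟨_, hn, rfl⟩, ?_⟩
      rw [show g = Z * rr hn hc from Subtype.ext h7.symm, map_mul,
        show π Z = 1 from (QuotientGroup.eq_one_iff _).2 hZc, one_mul]
    · refine absurd ?_ (refl_not_mem hc (hUn 0) hn)
      have : reflection (hUn 0) = (Z : Iso Q)⁻¹ * g := eq_inv_mul_of_mul_eq h7
      rw [this]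
      exact mul_mem (inv_mem Z.2) g.2

end CfsgLib.FischerOrder.Refl
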