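import Cfsg.Agent.Lib.ThreeTransp.OrthReflection
import Cfsg.Agent.Lib.Classical.SmallIso.Core

set_option autoImplicit false

/-! The order of the projective reflection group in seven dimensions over three elements whose
discriminant is the negative of the norm. -/

namespace CfsgLib.FischerOrder.ReflSeven

open QuadraticMap (polar)
open CfsgLib.OrthSpinor CfsgLib.OrthReflThree Subgroup
open Matrix

variable {ι : Type} [Fintype ι] [DecidableEq ι]

theorem polar_sum_right (Q : QuadraticForm (ZMod 3) (ι → ZMod 3)) {k : Type*} [Fintype k]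
    (v : ι → ZMod 3) (f : k → ι → ZMod 3) (a : k → ZMod 3) :
    polar (⇑Q) v (∑ i, a i • f i) = ∑ i, a i * polar (⇑Q) v (f i) := by
  have h := map_sum (QuadraticMap.polarBilin Q v) (fun i => a i • f i) Finset.univ
  simp only [QuadraticMap.polarBilin_apply_apply] at h
  rw [h]
  exact Finset.sum_congr rfl fun i _ => by rw [QuadraticMap.polar_smul_right, smul_eq_mul]

variable {k : Type} [Fintype k] [DecidableEq k]

/-- Coordinates along an orthogonal family of vectors of one norm. -/
theorem exists_coord_equiv (Q : QuadraticForm (ZMod 3) (ι → ZMod 3)) (f : k → ι → ZMod 3) {t : ZMod 3}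
    (ht : t ≠ 0) (hf : ∀ i, Q (f i) = t) (hff : ∀ i j, i ≠ j → polar (⇑Q) (f i) (f j) = 0)
    (hcard : Fintype.card k = Fintype.card ι) :
    ∃ E : (k → ZMod 3) ≃ₗ[ZMod 3] (ι → ZMod 3),
      (∀ a, E a = ∑ i, a i • f i) ∧ (∀ a, Q (E a) = t * ∑ i, a i * a i) ∧
      ∀ a i, polar (⇑Q) (f i) (E a) = 2 * t * a i := by
  let L : (k → ZMod 3) →ₗ[ZMod 3] (ι → ZMod 3) := Fintype.linearCombination (ZMod 3) f
  have hL : ∀ a, L a = ∑ i, a i • f i := fun a => Fintype.linearCombination_apply _ _ a
  have hcoord : ∀ a i, polar (⇑Q) (f i) (L a) = 2 * t * a i := by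
    intro a i
    rw [hL, polar_sum_right, Finset.sum_eq_single i (fun j _ hj => by rw [hff i j hj.symm, mul_zero])
      (by simp), polar_self', hf]
    ring
  have hinj : Function.Injective L := fun a b h => funext fun i => by
    have h1 := hcoord a i
    rw [h, hcoord b i] at h1
    exact (mul_left_cancel₀ (mul_ne_zero two_ne ht) h1).symm
  let E := L.linearEquivOfInjective hinj (by simp [hcard])
  have hE : ∀ a, E a = L a := fun a => rfl
  refine ⟨E, fun a => (hE a).trans (hL a), fun a => ?_, fun a i => by rw [hE, hcoord]⟩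
  have h : polar (⇑Q) (L a) (∑ i, a i • f i) = 2 * t * ∑ i, a i * a i := by
    rw [polar_sum_right, Finset.mul_sum]
    refine Finset.sum_congr rfl fun i _ => ?_
    rw [polar_comm' Q, hcoord]
    ring
  rw [← hL, polar_self'] at h
  rw [hE]
  exact mul_left_cancel₀ two_ne (by rw [h]; ring)

/-- The standard form in seven dimensions has an orthogonal basis of norm minus one. -/
def stdVec : Fin 7 → Unit ⊕ (Fin 3 ⊕ Fin 3) → ZMod 3 :=
  ![Sum.elim 1 (Sum.elim ![1, 0, 0] ![1, 0, 0]), Sum.elim (-1) (Sum.elim ![1, 0, 0] ![1, 0, 0]),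
    Sum.elim 0 (Sum.elim ![0, 1, 1] ![0, 1, 1]), Sum.elim 0 (Sum.elim ![0, 1, -1] ![0, 1, -1]),
    Sum.elim 0 (Sum.elim ![1, 0, 0] ![-1, 0, 0]), Sum.elim 0 (Sum.elim ![0, 1, 0] ![0, -1, 0]),
    Sum.elim 0 (Sum.elim ![0, 0, 1] ![0, 0, -1])]

theorem stdVec_spec : (∀ i, Cfsg.quadFormOdd 3 (ZMod 3) (stdVec i) = -1) ∧
    ∀ i j, i ≠ j → Cfsg.quadFormOdd 3 (ZMod 3) (stdVec i + stdVec j) - Cfsg.quadFormOdd 3 (ZMod 3) (stdVec i) -
      Cfsg.quadFormOdd 3 (ZMod 3) (stdVec j) = 0 := by
  unfold Cfsg.quadFormOdd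
  decide +kernel

variable {Q : QuadraticForm (ZMod 3) (Fin 7 → ZMod 3)} {c : ZMod 3}

theorem gram_det (f : Fin 7 → Fin 7 → ZMod 3) :
    (Matrix.of fun i j => polar (⇑Q) (f i) (f j)).det =
      (Matrix.of f).det * (Matrix.of f).det * Cfsg.polarGramDet (⇑Q) := by
  set G : Matrix (Fin 7) (Fin 7) (ZMod 3) :=
    Matrix.of fun i j => QuadraticMap.polar Q (Pi.single i 1) (Pi.single j 1) with hG
  have hexp : ∀ v : Fin 7 → ZMod 3, v = ∑ i, v i • (Pi.single i 1 : Fin 7 → ZMod 3) := fun v => by
    ext k; simp [Finset.sum_apply, Pi.single_apply]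
  have key : (Matrix.of fun i j => polar (⇑Q) (f i) (f j)) = Matrix.of f * G * (Matrix.of f).transpose := by
    ext i j
    simp only [Matrix.of_apply, Matrix.mul_apply, Matrix.transpose_apply, hG]
    conv_lhs => rw [hexp (f j), polar_sum_right]
    refine Finset.sum_congr rfl fun l _ => ?_
    rw [mul_comm, polar_comm' Q (f i)]
    congr 1
    conv_lhs => rw [hexp (f i), polar_sum_right]
    exact Finset.sum_congr rfl fun k _ => by rw [polar_comm' Q (Pi.single l 1)]
  rw [key, Matrix.det_mul, Matrix.det_mul, Matrix.det_transpose]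
  show _ * G.det * _ = _ * G.det
  ring

theorem exists_basis (hQ : (QuadraticMap.polarBilin Q).Nondegenerate)
    (hμ : Cfsg.polarGramDet (⇑Q) = -c) (hc : c ≠ 0) :
    ∃ f : Fin 7 → Fin 7 → ZMod 3, (∀ i, Q (f i) = c) ∧
      ∀ i j, i ≠ j → polar (⇑Q) (f i) (f j) = 0 := by
  have hext : ∀ k ≤ 6, ∃ p : Fin k → Fin 7 → ZMod 3, (∀ i, Q (p i) = c) ∧
      ∀ i j, i ≠ j → polar (⇑Q) (p i) (p j) = 0 := by
    intro k hk
    induction k with
    | zero => exact ⟨fun i => i.elim0, fun i => i.elim0, fun i => i.elim0⟩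
    | succ k ih =>
      obtain ⟨p, hp, hpp⟩ := ih (by omega)
      obtain ⟨z, hz, hzo⟩ := exists_ortho_norm hQ p (fun i => hp i ▸ hc) hpp (by omega) c
      refine ⟨Fin.snoc p z, fun i => ?_, fun i j hij => ?_⟩
      · induction i using Fin.lastCases <;> simp [hz, hp]
      · induction i using Fin.lastCases with
        | last =>
          induction j using Fin.lastCases with
          | last => exact absurd rfl hij
          | cast j => simp [polar_comm' Q z (p j), hzo]
        | cast i =>
          induction j using Fin.lastCases with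
          | last => simp [hzo]
          | cast j => simpa using hpp i j fun e => hij (by rw [e])
  obtain ⟨p, hp, hpp⟩ := hext 6 le_rfl
  obtain ⟨a, ha, hao⟩ := exists_ortho_anisotropic two_ne hQ p (fun i => hp i ▸ hc) hpp
    (by rw [Fintype.card_fin]; norm_num)
  set f : Fin 7 → Fin 7 → ZMod 3 := Fin.snoc p a with hf
  have forth : ∀ i j, i ≠ j → polar (⇑Q) (f i) (f j) = 0 := by
    intro i j hij
    induction i using Fin.lastCases with
    | last =>
      induction j using Fin.lastCases with
      | last => exact absurd rfl hij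
      | cast j =>
        simp only [hf, Fin.snoc_last, Fin.snoc_castSucc]
        rw [polar_comm' Q a (p j), hao]
    | cast i =>
      induction j using Fin.lastCases with
      | last =>
        simp only [hf, Fin.snoc_last, Fin.snoc_castSucc]
        exact hao i
      | cast j => simpa [hf] using hpp i j fun e => hij (by rw [e])
  have hdiag : (Matrix.of fun i j => polar (⇑Q) (f i) (f j)) = Matrix.diagonal fun i => 2 * Q (f i) := by
    ext i j
    by_cases hij : i = j
    · subst hij; simp [polar_self']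
    · simp [hij, forth i j hij]
  have hdet := gram_det (Q := Q) f
  rw [hdiag, Matrix.det_diagonal, hμ, Fin.prod_univ_castSucc] at hdet
  simp only [hf, Fin.snoc_castSucc, Fin.snoc_last, hp, Finset.prod_const, Finset.card_univ,
    Fintype.card_fin] at hdet
  have hsolve : ∀ c t d : ZMod 3, c ≠ 0 → t ≠ 0 → (2 * c) ^ 6 * (2 * t) = d * d * -c → t = c := by
    decide
  exact ⟨f, fun i => by
    induction i using Fin.lastCases with
    | last =>
      simp only [hf, Fin.snoc_last]
      exact hsolve c (Q a) _ hc ha hdet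
    | cast i => simp [hf, hp], forth⟩

/-- Isometries do not notice a sign of the form. -/
theorem isometryGroup_smul {f g : (ι → ZMod 3) → ZMod 3} {s : ZMod 3} (hs : s ≠ 0)
    (h : ∀ v, g v = s * f v) :
    Cfsg.isometryGroup (ZMod 3) g = Cfsg.isometryGroup (ZMod 3) f := by
  ext M
  refine forall_congr' fun v => forall_congr' fun _ => ?_
  simp only [h]
  exact ⟨fun h1 => mul_left_cancel₀ hs h1, fun h1 => by rw [h1]⟩

/-- The order of the orthogonal group. -/
theorem card_iso (hQ : (QuadraticMap.polarBilin Q).Nondegenerate)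
    (hμ : Cfsg.polarGramDet (⇑Q) = -c) (hc : c ≠ 0) :
    Nat.card ↥(Cfsg.isometryGroup (ZMod 3) ⇑Q) = 18341406720 := by
  classical
  haveI : Fact (Nat.Prime 3) := ⟨Nat.prime_three⟩
  obtain ⟨f, hf, hff⟩ := exists_basis hQ hμ hc
  obtain ⟨E, -, hEQ, -⟩ := exists_coord_equiv Q f hc hf hff rfl
  set R := (Classical.Quad.hypForm 3 (Classical.Quad.lineForm (ZMod 3))).comp
    (Classical.Quad.oddEquiv 3 (ZMod 3)).toLinearMap with hRdef
  have hR : ⇑R = Cfsg.quadFormOdd 3 (ZMod 3) := funext (Classical.Quad.oddEquiv_spec 3)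
  obtain ⟨E', -, hER, -⟩ := exists_coord_equiv R stdVec (t := (-1 : ZMod 3)) (neg_ne_zero.2 one_ne_zero)
    (fun i => (congrFun hR _).trans (stdVec_spec.1 i)) (fun i j hij => by
      unfold QuadraticMap.polar
      rw [hR]
      exact stdVec_spec.2 i j hij) (by simp)
  let R' : QuadraticForm (ZMod 3) (Unit ⊕ (Fin 3 ⊕ Fin 3) → ZMod 3) := -c • R
  have hQR : ∀ v, Q (E (E'.symm v)) = R' v := fun v => by
    obtain ⟨a, rfl⟩ := E'.surjective v
    rw [LinearEquiv.symm_apply_apply, hEQ, _root_.QuadraticMap.smul_apply, hER, smul_eq_mul]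
    ring
  let e := Classical.Quad.isometryEquivModel (Q := Q) (Qf := ⇑R') (E'.symm.trans E) hQR
  let e0 := Classical.Quad.isometryGroupEquiv Q fun _ => rfl
  rw [Nat.card_congr (e0.trans e.symm).toEquiv,
    isometryGroup_smul (neg_ne_zero.2 hc) (g := ⇑R') (f := Cfsg.quadFormOdd 3 (ZMod 3)) (fun v => by
      rw [← hR]; rfl),
    Classical.SmallIso.card_isometryGroup_odd two_ne]
  simp [Finset.prod_range_succ]

/-- The centre of the reflection group has order two. -/
theorem card_center (hQ : (QuadraticMap.polarBilin Q).Nondegenerate)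
    (hμ : Cfsg.polarGramDet (⇑Q) = -c) (hc : c ≠ 0) :
    Nat.card ↥(center ↥(Cfsg.reflectionSubgroup (⇑Q) c)) = 2 := by
  obtain ⟨f, hf, hff⟩ := exists_basis hQ hμ hc
  obtain ⟨E, hEf, hEQ, hEp⟩ := exists_coord_equiv Q f hc hf hff rfl
  have hn : ∀ i, Q (f i) ≠ 0 := fun i => (hf i).symm ▸ hc
  have hmem : ∀ (v : Fin 7 → ZMod 3) (hv : Q v = c),
      reflection (Q := Q) (v := v) (hv ▸ hc) ∈ Cfsg.reflectionSubgroup (⇑Q) c := fun v hv =>
    subset_closure ((mem_norm_iff hc).2 ⟨v, hv, rfl⟩)
  have hext : ∀ {g h : ↥(Cfsg.isometryGroup (ZMod 3) ⇑Q)},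
      (∀ i, act Q g (f i) = act Q h (f i)) → g = h := by
    intro g h H
    refine ext_act Q fun x => ?_
    obtain ⟨a, rfl⟩ := E.surjective x
    show g.1.1 *ᵥ _ = h.1.1 *ᵥ _
    rw [hEf, Matrix.mulVec_sum, Matrix.mulVec_sum]
    refine Finset.sum_congr rfl fun i _ => ?_
    rw [Matrix.mulVec_smul, Matrix.mulVec_smul]
    exact congrArg _ (H i)
  set l := List.ofFn (fun i => reflection (Q := Q) (hn i)) with hl
  set m := l.prod with hm
  have hact : ∀ (s : List (Fin 7)) (x : Fin 7), s.Nodup →
      act Q (s.map fun i => reflection (Q := Q) (hn i)).prod (f x) = if x ∈ s then -f x else f x := by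
    intro s x hs
    induction s with
    | nil => simp
    | cons i s ih =>
      obtain ⟨his, hs⟩ := List.nodup_cons.1 hs
      rw [List.map_cons, List.prod_cons, act_mul, ih hs]
      by_cases hxi : x = i
      · subst hxi
        simp [his, act_reflection_self]
      · by_cases hxs : x ∈ s
        · simp [hxs, hxi, act_neg, act_reflection_of_ortho _ (hff i x (Ne.symm hxi))]
        · simp [hxs, hxi, act_reflection_of_ortho _ (hff i x (Ne.symm hxi))]
  have hmf : ∀ i, act Q m (f i) = -f i := by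
    intro i
    have h := hact (List.finRange 7) i (List.nodup_finRange 7)
    rw [if_pos (List.mem_finRange i)] at h
    rwa [hm, hl, List.ofFn_eq_map]
  have hmR : m ∈ Cfsg.reflectionSubgroup (⇑Q) c := by
    refine list_prod_mem fun g hg => ?_
    rw [hl, List.mem_ofFn] at hg
    obtain ⟨i, rfl⟩ := hg
    exact hmem (f i) (hf i)
  have hmneg : ∀ x, act Q m x = -x := by
    intro x
    obtain ⟨a, rfl⟩ := E.surjective x
    show m.1.1 *ᵥ _ = _
    rw [hEf, Matrix.mulVec_sum, ← Finset.sum_neg_distrib]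
    refine Finset.sum_congr rfl fun i _ => ?_
    rw [Matrix.mulVec_smul, show m.1.1 *ᵥ f i = -f i from hmf i, smul_neg]
  have hmc : (⟨m, hmR⟩ : ↥(Cfsg.reflectionSubgroup (⇑Q) c)) ∈ center _ := by
    refine mem_center_iff.2 fun g => Subtype.ext (ext_act Q fun x => ?_)
    show act Q (g.1 * m) x = act Q (m * g.1) x
    rw [act_mul, act_mul, hmneg, hmneg, act_neg]
  have hm1 : m ≠ 1 := fun h => by
    have h1 := hmf 0
    rw [h, act_one] at h1
    have h2 : ∀ t : ZMod 3, t = -t → t = 0 := by decide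
    refine hn 0 ?_
    rw [show f 0 = 0 from funext fun j => h2 _ (congrFun h1 j), QuadraticMap.map_zero]
  have hcen : ∀ z ∈ center ↥(Cfsg.reflectionSubgroup (⇑Q) c), (z : ↥(Cfsg.isometryGroup (ZMod 3) ⇑Q)) = 1 ∨
      (z : ↥(Cfsg.isometryGroup (ZMod 3) ⇑Q)) = m := by
    intro z hz
    set w : ↥(Cfsg.isometryGroup (ZMod 3) ⇑Q) := ↑z with hw
    have hline : ∀ v, Q v = c → ∃ t : ZMod 3, act Q w v = t • v := by
      intro v hv
      have hvn : Q v ≠ 0 := hv.symm ▸ hc
      have hcom : w * reflection hvn = reflection hvn * w :=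
        (congrArg Subtype.val (mem_center_iff.1 hz ⟨_, hmem v hv⟩)).symm
      have h1 : act Q (reflection hvn) (act Q w v) = -act Q w v := by
        rw [← act_mul, ← hcom, act_mul, act_reflection_self, act_neg]
      rw [act_reflection] at h1
      refine ⟨-((Q v)⁻¹ * polar (⇑Q) v (act Q w v)), funext fun j => ?_⟩
      have h2 := congrFun h1 j
      simp only [Pi.sub_apply, Pi.smul_apply, smul_eq_mul, Pi.neg_apply] at h2 ⊢
      have h3 : ∀ x y u : ZMod 3, x - u * y = -x → x = -u * y := by decide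
      exact h3 _ _ _ h2
    choose t ht using fun i => hline (f i) (hf i)
    have hquad : ∀ a : Fin 7 → ZMod 3, ∑ i, a i * a i = 1 → ∀ i j, a i ≠ 0 → a j ≠ 0 → t i = t j := by
      intro a ha i j hi hj
      obtain ⟨s, hs⟩ := hline (E a) (by rw [hEQ, ha, mul_one])
      have hval : ∀ k, a k * t k = a k * s := by
        intro k
        have e1 : act Q w (E a) = E fun k => a k * t k := by
          rw [hEf, hEf]
          simp only [act, Matrix.mulVec_sum, Matrix.mulVec_smul]
          refine Finset.sum_congr rfl fun l _ => ?_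
          rw [show w.1.1 *ᵥ f l = t l • f l from ht l, smul_smul]
        have h1 := congrArg (fun v => polar (⇑Q) (f k) v) (e1.symm.trans hs)
        simp only [hEp, QuadraticMap.polar_smul_right, smul_eq_mul] at h1
        refine mul_left_cancel₀ (mul_ne_zero two_ne hc) ?_
        linear_combination h1
      exact (mul_left_cancel₀ hi (hval i)).trans (mul_left_cancel₀ hj (hval j)).symm
    have hA : ∑ i, (![1, 1, 1, 1, 0, 0, 0] : Fin 7 → ZMod 3) i * ![1, 1, 1, 1, 0, 0, 0] i = 1 := by
      decide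
    have hB : ∑ i, (![1, 0, 0, 0, 1, 1, 1] : Fin 7 → ZMod 3) i * ![1, 0, 0, 0, 1, 1, 1] i = 1 := by
      decide
    have hall : ∀ i, t i = t 0 := by
      intro i
      fin_cases i
      · rfl
      all_goals first
        | exact hquad _ hA _ _ (by decide) (by decide)
        | exact hquad _ hB _ _ (by decide) (by decide)
    have hsq : ∀ s : ZMod 3, s = 0 ∨ s = 1 ∨ s = -1 := by decide
    rcases hsq (t 0) with h | h | h
    · exfalso
      have h1 := ht 0
      rw [h, zero_smul] at h1
      have := congrArg (⇑Q) h1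
      rw [Q_act, hf, QuadraticMap.map_zero] at this
      exact hc this
    · exact Or.inl (hext fun i => by rw [ht, hall, h, one_smul, act_one])
    · exact Or.inr (hext fun i => by rw [ht, hall, h, neg_one_smul, hmf])
  have hset : (center ↥(Cfsg.reflectionSubgroup (⇑Q) c) : Set ↥(Cfsg.reflectionSubgroup (⇑Q) c)) =
      {1, ⟨m, hmR⟩} := by
    refine Set.Subset.antisymm (fun z hz => ?_) ?_
    · rcases hcen z hz with h | h
      exacts [Or.inl (Subtype.ext h), Or.inr (Subtype.ext h)]
    · rintro z (rfl | rfl)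
      exacts [one_mem _, hmc]
  have hne : (1 : ↥(Cfsg.reflectionSubgroup (⇑Q) c)) ≠ ⟨m, hmR⟩ := fun h =>
    hm1 ((congrArg Subtype.val h).symm.trans rfl)
  rw [← SetLike.coe_sort_coe, Nat.card_coe_set_eq, hset]
  exact Set.ncard_pair hne

/-- The order of the projective reflection group. -/
theorem card_of_isProj {X : Type*} [Group X] {c : ZMod 3} (hc : c ≠ 0)
    (h : Cfsg.IsProjReflectionGroupModThree X 7 (-c) c) : Nat.card X = 4585351680 := by
  obtain ⟨Q, hQ, hμ, ⟨e⟩⟩ := h
  have h1 := (Cfsg.reflectionSubgroup (⇑Q) c).card_mul_index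
  rw [index_reflectionSubgroup (by norm_num) hQ hc, card_iso hQ hμ hc,
    Subgroup.card_eq_card_quotient_mul_card_subgroup (center ↥(Cfsg.reflectionSubgroup (⇑Q) c)),
    card_center hQ hμ hc] at h1
  rw [Nat.card_congr e.toEquiv]
  omega

end CfsgLib.FischerOrder.ReflSeven
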