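import Cfsg.Agent.Lib.FischerOrder.Width
import Cfsg.Agent.Lib.FischerOrder.ReflSeven
import Cfsg.Agent.Lib.FischerPairCent.Levels
import Cfsg.Agent.Lib.FischerPair.LinkM23

set_option autoImplicit false

/-! The parameters of type M(23). -/

namespace CfsgLib.FischerOrder.M23

open Subgroup
open CfsgLib.FischerType CfsgLib.FischerPairCent
open CfsgLib.ThreeTrans (link mul_self inv_eq conj_self_of_commute)

variable {G : Type*} [Group G]

/-- The class of an element times the order of its centraliser is the order of the group. -/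
theorem ncard_conjugatesOf_mul (d : G) :
    (conjugatesOf d).ncard * Nat.card (centralizer ({d} : Set G)) = Nat.card G := by
  have e1 : MulAction.orbit (ConjAct G) d = conjugatesOf d := by
    ext x
    rw [ConjAct.mem_orbit_conjAct]
    exact isConj_comm
  have e2 : Nat.card (MulAction.stabilizer (ConjAct G) d) = Nat.card (centralizer ({d} : Set G)) :=
    Nat.card_congr
      { toFun := fun g => ⟨ConjAct.ofConjAct g.1, mem_centralizer_singleton_iff.2
          (mul_inv_eq_iff_eq_mul.1
            ((ConjAct.smul_def g.1 d).symm.trans (MulAction.mem_stabilizer_iff.1 g.2)))⟩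
        invFun := fun g => ⟨ConjAct.toConjAct g.1, by
          simp [MulAction.mem_stabilizer_iff, ConjAct.smul_def,
            mul_inv_eq_iff_eq_mul.2 (mem_centralizer_singleton_iff.1 g.2)]⟩
        left_inv := fun _ => rfl
        right_inv := fun _ => rfl }
  have key := MulAction.index_stabilizer (ConjAct G) d
  rw [e1] at key
  have h3 := Subgroup.card_mul_index (MulAction.stabilizer (ConjAct G) d)
  rw [key, e2] at h3
  rw [mul_comm, h3]
  rfl

/-- Orbit and stabiliser for conjugation by a subgroup. -/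
theorem card_orbit_conj_mul (K : Subgroup G) (x : G) :
    {y | ∃ k ∈ K, k * x * k⁻¹ = y}.ncard * Nat.card ↥(K ⊓ centralizer ({x} : Set G)) = Nat.card K := by
  letI : MulAction ↥K G := MulAction.compHom G (ConjAct.toConjAct.toMonoidHom.comp K.subtype)
  have hsmul : ∀ (k : ↥K) (y : G), k • y = (k : G) * y * (k : G)⁻¹ := fun _ _ => rfl
  have e1 : MulAction.orbit ↥K x = {y | ∃ k ∈ K, k * x * k⁻¹ = y} := by
    ext y
    exact ⟨fun ⟨k, hk⟩ => ⟨k, k.2, hk⟩, fun ⟨k, hk, h⟩ => ⟨⟨k, hk⟩, h⟩⟩
  have e2 : Nat.card (MulAction.stabilizer ↥K x) = Nat.card ↥(K ⊓ centralizer ({x} : Set G)) :=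
    Nat.card_congr
      { toFun := fun g => ⟨g.1.1, g.1.2, mem_centralizer_singleton_iff.2
          (mul_inv_eq_iff_eq_mul.1 ((hsmul g.1 x).symm.trans (MulAction.mem_stabilizer_iff.1 g.2)))⟩
        invFun := fun g => ⟨⟨g.1, g.2.1⟩, MulAction.mem_stabilizer_iff.2 ((hsmul _ x).trans
          (mul_inv_eq_iff_eq_mul.2 (mem_centralizer_singleton_iff.1 g.2.2)))⟩
        left_inv := fun _ => rfl
        right_inv := fun _ => rfl }
  have key := MulAction.index_stabilizer ↥K x
  have h3 := Subgroup.card_mul_index (MulAction.stabilizer ↥K x)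
  rw [key, e1, e2] at h3
  rw [mul_comm, h3]

variable [Finite G] {D : Set G} (S : Setting D) (h : Cfsg.IsOfTypeM23 G D)

include S h

/-- The link quotient at one member has type M(22) and its class size. -/
theorem exists_link_data : ∃ d ∈ D, (∃ u ∈ link D d, ∃ v ∈ link D d, ¬ Commute u v) ∧
    Setting (img D d) ∧ Cfsg.IsOfTypeM22 (Quot D d) (img D d) :=
  CfsgLib.FischerCent.imgData_of_typeM23 S h

/-- A member commutes with 3510 others. -/
theorem ncard_link {x : G} (hx : x ∈ D) : (link D x).ncard = 3510 := by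
  obtain ⟨d, hd, hpair, SX, hX⟩ := exists_link_data S h
  obtain ⟨g, rfl⟩ := CfsgLib.ThreeTransp.class_conj S.cls hd hx
  have hinj : Function.Injective fun e => g * e * g⁻¹ := fun e f h =>
    mul_left_cancel (mul_right_cancel h)
  rw [← CfsgLib.ThreeTrans.link_conj S.cls, Set.ncard_image_of_injective _ hinj,
    ← ncard_class SX hX]
  refine Set.ncard_congr (fun w hw => toImg D d hw) (fun w hw => toImg_mem hw)
    (fun u v hu hv h => eq_of_toImg S.cls.1 (S.noCentral hd hpair) hu hv h) fun q hq => ?_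
  obtain ⟨w, hw, rfl⟩ := exists_toImg hq
  exact ⟨w, hw, rfl⟩

/-- The centraliser of a member. -/
theorem card_centralizer {x : G} (hx : x ∈ D) :
    Nat.card (centralizer ({x} : Set G)) = 2 * (3510 * (2 * 9196830720)) := by
  obtain ⟨-, hxL, -, hcen, d, -, SX, hX, ⟨e⟩⟩ := CfsgLib.FischerPair.link_group_of_typeM23 S h hx
  have hxc : (⟨x, hxL⟩ : ↥(closure (link D x))) ∈ center ↥(closure (link D x)) :=
    mem_center_iff.2 fun y => Subtype.ext (mem_centralizer_singleton_iff.1
      (CfsgLib.FischerUnique.closure_link_le_centralizer y.2))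
  have hset : (center ↥(closure (link D x)) : Set ↥(closure (link D x))) = {1, ⟨x, hxL⟩} := by
    refine Set.Subset.antisymm (fun z hz => ?_) ?_
    · rcases hcen z hz with h | h
      exacts [Or.inl (Subtype.ext h), Or.inr (Subtype.ext h)]
    · rintro z (rfl | rfl)
      exacts [one_mem _, hxc]
  have hne : (1 : ↥(closure (link D x))) ≠ ⟨x, hxL⟩ := fun h1 =>
    CfsgLib.ThreeTrans.ne_one S.cls.1 hx (congrArg Subtype.val h1).symm
  have hZ : Nat.card ↥(center ↥(closure (link D x))) = 2 := by
    rw [← SetLike.coe_sort_coe, Nat.card_coe_set_eq, hset]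
    exact Set.ncard_pair hne
  rw [CfsgLib.FischerCent.centralizer_eq_of_typeM23 S h hx,
    Subgroup.card_eq_card_quotient_mul_card_subgroup (center ↥(closure (link D x))),
    Nat.card_congr e.toEquiv, card_group SX hX, hZ, mul_comm]

/-- The centraliser of two non-commuting members at the defining pair. -/
theorem exists_card_pair : ∃ a ∈ D, ∃ c ∈ D, ¬ Commute a c ∧
    Nat.card ↥(centralizer ({a} : Set G) ⊓ centralizer ({c} : Set G)) = 4585351680 := by
  obtain ⟨-, a, ha, c, hc, hac, -, c₃, hc₃, hproj⟩ := id h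
  have hP := pairs_of_typeM23 S h a ha c hc hac
  refine ⟨a, ha, c, hc, hac, ?_⟩
  have hL : centralizer ({a} : Set G) ⊓ centralizer ({c} : Set G) =
      closure (link D a ∩ link D c) := by
    refine le_antisymm (fun g hg => hP.le g (mem_centralizer_singleton_iff.1 hg.1)
      (mem_centralizer_singleton_iff.1 hg.2)) ((closure_le _).2 fun w hw =>
      ⟨mem_centralizer_singleton_iff.2 hw.1.2.2.eq.symm,
        mem_centralizer_singleton_iff.2 hw.2.2.2.eq.symm⟩)
  have hcen : center ↥(closure (link D a ∩ link D c)) = ⊥ := by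
    refine eq_bot_iff.2 fun z hz => ?_
    have hza : Commute (z : G) a := mem_centralizer_singleton_iff.1
      ((hL.ge z.2).1)
    have hzc : Commute (z : G) c := mem_centralizer_singleton_iff.1
      ((hL.ge z.2).2)
    exact mem_bot.2 (Subtype.ext (hP.triv z hza hzc fun t ht =>
      (congrArg Subtype.val (mem_center_iff.1 hz ⟨t, subset_closure ht⟩)).symm))
  rw [hL, Nat.card_congr ((QuotientGroup.quotientMulEquivOfEq hcen).trans
    QuotientGroup.quotientBot).symm.toEquiv]
  exact ReflSeven.card_of_isProj hc₃ hproj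

/-- There are 31671 members. -/
theorem ncard_class : D.ncard = 31671 := by
  obtain ⟨a, ha, c, hc, hac, hcard⟩ := exists_card_pair S h
  obtain ⟨d, hd, ⟨u, hu, -⟩, -⟩ := exists_link_data S h
  have hedge : ∃ p ∈ D, ∃ q ∈ D, p ≠ q ∧ Commute p q := ⟨d, hd, u, hu.1, hu.2.1.symm, hu.2.2⟩
  set M := {x | x ∈ D ∧ ¬ Commute a x} with hM
  have horb : {y | ∃ k ∈ centralizer ({a} : Set G), k * c * k⁻¹ = y} = M := by
    ext y
    constructor
    · rintro ⟨k, hk, rfl⟩
      have hka : k * a * k⁻¹ = a := conj_self_of_commute (mem_centralizer_singleton_iff.1 hk)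
      refine ⟨CfsgLib.ThreeTransp.class_conj_mem S.cls k hc, fun hcom => hac ?_⟩
      rw [← hka] at hcom
      exact (CfsgLib.ThreeTrans.commute_conj_iff' k a c).1 hcom
    · rintro ⟨hy, hay⟩
      obtain ⟨k, hk, e⟩ :=
        CfsgLib.ThreeTrans.rel_noncommuting S.cls S.prim hedge ha hc hy hac hay
      exact ⟨k, mem_centralizer_singleton_iff.2 hk, e⟩
  have h1 := card_orbit_conj_mul (centralizer ({a} : Set G)) c
  rw [horb, hcard, card_centralizer S h ha] at h1
  have hdec : D = insert a (link D a) ∪ M := by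
    ext x
    simp only [hM, Set.mem_union, Set.mem_insert_iff, Set.mem_ofPred_eq]
    constructor
    · intro hx
      by_cases hxa : x = a
      · exact Or.inl (Or.inl hxa)
      by_cases hax : Commute a x
      · exact Or.inl (Or.inr ⟨hx, hxa, hax⟩)
      · exact Or.inr ⟨hx, hax⟩
    · rintro ((rfl | hx) | hx)
      exacts [ha, hx.1, hx.1]
  have hdisj : Disjoint (insert a (link D a)) M := by
    rw [Set.disjoint_left]
    rintro x (rfl | hx) hxM
    · exact hxM.2 (Commute.refl _)
    · exact hxM.2 hx.2.2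
  have hnot : a ∉ link D a := fun h => h.2.1 rfl
  rw [hdec, Set.ncard_union_eq hdisj (Set.toFinite _) (Set.toFinite _),
    Set.ncard_insert_of_notMem hnot (Set.toFinite _), ncard_link S h ha]
  omega

/-- The order of a group of type M(23). -/
theorem card_group : Nat.card G = 31671 * (2 * (3510 * (2 * 9196830720))) := by
  obtain ⟨d, hd, hD⟩ := S.cls.2.1
  rw [← ncard_conjugatesOf_mul d, ← hD, ncard_class S h, card_centralizer S h hd]

/-- The width is 23. -/
theorem commutingWidth_eq : Cfsg.commutingWidth D = 23 := by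
  obtain ⟨d, hd, hpair, SX, hX⟩ := exists_link_data S h
  have hn := S.noCentral hd hpair
  have hset := S.cls.1
  refine IsGreatest.csSup_eq ⟨?_, ?_⟩
  · obtain ⟨q, hq, -⟩ := SX.cls.2.1
    obtain ⟨F, i1, i2, ⟨M⟩⟩ := models_of_typeM22 SX hX hq
    set T := {w | ∃ hw : w ∈ link D d, toImg D d hw ∈ M.base} with hT
    have hTc : T.ncard = 22 := by
      rw [← M.ncard_base]
      refine Set.ncard_congr (fun w hw => toImg D d hw.1) (fun w hw => hw.2)
        (fun u v hu hv h => eq_of_toImg hset hn hu.1 hv.1 h) fun x hx => ?_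
      obtain ⟨w, hw, rfl⟩ := exists_toImg (M.base_subset hx)
      exact ⟨w, ⟨hw, hx⟩, rfl⟩
    refine ⟨insert d T, ?_, Set.toFinite _, ?_, ?_⟩
    · rintro x (rfl | ⟨hw, -⟩)
      exacts [hd, hw.1]
    · rintro x (rfl | ⟨hx, hx'⟩) y (rfl | ⟨hy, hy'⟩)
      · exact Commute.refl _
      · exact hy.2.2
      · exact hx.2.2.symm
      · exact commute_of_toImg hset hx hy (M.base_commute hx' hy')
    · have hdT : d ∉ T := fun ⟨hw, _⟩ => hw.2.1 rfl
      rw [Set.ncard_insert_of_notMem hdT (Set.toFinite _), hTc]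
  · rintro m ⟨E, hE, -, hcomm, rfl⟩
    rcases E.eq_empty_or_nonempty with rfl | ⟨x, hx⟩
    · simp
    obtain ⟨g, hg⟩ := CfsgLib.ThreeTransp.class_conj S.cls (hE hx) hd
    set E' := (fun e => g * e * g⁻¹) '' (E \ {x}) with hE'
    have hinj : Function.Injective fun e => g * e * g⁻¹ := fun e f h =>
      mul_left_cancel (mul_right_cancel h)
    have hlink : ∀ e ∈ E', e ∈ link D d := by
      rintro _ ⟨e, he, rfl⟩
      rw [← hg]
      exact link_conj_mem S.cls g ⟨hE he.1, he.2, hcomm x hx e he.1⟩
    set T := {q | ∃ e, ∃ he : e ∈ E', toImg D d (hlink e he) = q} with hT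
    have hbound : T.ncard ≤ 22 := by
      refine ncard_le_of_pairwise_commute SX hX ?_ ?_
      · rintro _ ⟨e, he, rfl⟩
        exact toImg_mem _
      · rintro _ ⟨_, ⟨e, he, rfl⟩, rfl⟩ _ ⟨_, ⟨f, hf, rfl⟩, rfl⟩
        exact commute_toImg _ _ ((CfsgLib.ThreeTrans.commute_conj_iff' g e f).2 (hcomm e he.1 f hf.1))
    have hEc : E'.ncard = T.ncard := by
      refine Set.ncard_congr (fun e he => toImg D d (hlink e he)) (fun e he => ⟨e, he, rfl⟩)
        (fun u v hu hv h => eq_of_toImg hset hn (hlink u hu) (hlink v hv) h) ?_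
      rintro _ ⟨e, he, rfl⟩
      exact ⟨e, he, rfl⟩
    rw [hE', Set.ncard_image_of_injective _ hinj, Set.ncard_sdiff_singleton_of_mem hx] at hEc
    omega

/-- A group of type M(23) is simple. -/
theorem isSimpleGroup : IsSimpleGroup G := by
  obtain ⟨hset, hconj, hgen⟩ := CfsgLib.ThreeTransp.class_to_group S.cls
  obtain ⟨a, ha, hpair, -⟩ := exists_link_data S h
  obtain ⟨-, haH, hqs, -⟩ := CfsgLib.FischerPair.link_group_of_typeM23 S h ha
  have hperf : commutator ↥(closure (link D a)) = ⊤ := hqs.1.commutator_eq_top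
  obtain ⟨u, hu, v, hv, huv⟩ := hpair
  have hD2 := S.prim.2.1
  have hw : ∃ p ∈ D, ∃ q ∈ D, p ≠ q ∧ Commute p q := ⟨a, ha, u, hu.1, hu.2.1.symm, hu.2.2⟩
  have h2 := CfsgLib.ThreeTransp.pCore_two_le_center S.cls S.prim
  have h3 := CfsgLib.ThreeTransp.pCore_three_le_center S.cls S.prim hw
  obtain ⟨hn, hq, hF⟩ := CfsgLib.ThreeTransp.layer_component S.cls hD2 h2 h3
  set L := Cfsg.layer G
  have hidx := CfsgLib.ThreeTransp.index_le_two_of_connected S.cls hD2 h2 h3 hq hF
    (CfsgLib.ThreeTransp.commutingGraph_connected S.cls S.prim hw)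
  have hcomm : commutator G ≤ L := by
    rw [commutator_def]
    refine commutator_le.2 fun x _ y _ => ?_
    have hne : L.index ≠ 0 := index_ne_zero_of_finite
    rcases (show L.index = 1 ∨ L.index = 2 by omega) with h1 | h1
    · rw [index_eq_one.1 h1]; exact mem_top _
    · simp only [commutatorElement_def, mul_mem_iff_of_index_two h1, inv_mem_iff]
      tauto
  have haG : a ∈ commutator G := by
    have h1 : (⟨a, haH⟩ : ↥(closure (link D a))) ∈ commutator ↥(closure (link D a)) := by
      rw [hperf]; exact mem_top _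
    have h2' : a ∈ (commutator ↥(closure (link D a))).map (closure (link D a)).subtype :=
      ⟨_, h1, rfl⟩
    rw [map_subtype_commutator] at h2'
    rw [commutator_def]
    exact commutator_mono le_top le_top h2'
  have htop : L = ⊤ := by
    rw [eq_top_iff, ← hgen, closure_le]
    intro x hx
    obtain ⟨g, rfl⟩ := CfsgLib.ThreeTransp.class_conj S.cls ha hx
    exact hn.conj_mem a (hcomm haG) g
  have hs : IsSimpleGroup (↥L ⧸ center ↥L) := hq.2
  let e : ↥L ≃* G := (MulEquiv.subgroupCongr htop).trans Subgroup.topEquiv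
  have hcbot : center ↥L = ⊥ := by
    refine eq_bot_iff.2 fun z hz => mem_bot.2 (e.injective ?_)
    rw [map_one, ← mem_bot, ← S.center_bot]
    refine mem_center_iff.2 fun y => ?_
    obtain ⟨y, rfl⟩ := e.surjective y
    rw [← map_mul, ← map_mul, mem_center_iff.1 hz y]
  let e2 : ↥L ⧸ center ↥L ≃* G := ((QuotientGroup.quotientMulEquivOfEq hcbot).trans
    QuotientGroup.quotientBot).trans e
  have : Nontrivial G := ⟨a, 1, CfsgLib.ThreeTrans.ne_one hset ha⟩
  exact IsSimpleGroup.isSimpleGroup_of_surjective e2.toMonoidHom e2.surjective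

end CfsgLib.FischerOrder.M23
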