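import Cfsg.Agent.Lib.FischerOrder.CountsM23
import Cfsg.Agent.Lib.FischerM24.Cores
import Cfsg.Agent.Lib.FischerM24.Width
import Cfsg.Agent.Lib.Classical.Quad.Std

set_option autoImplicit false

/-! The parameters of type M(24). -/

namespace CfsgLib.FischerOrder.M24

open Subgroup
open CfsgLib.FischerType CfsgLib.FischerPairCent
open CfsgLib.ThreeTrans (link mul_self inv_eq conj_self_of_commute)

/-- The simple group of the hyperbolic form in dimension eight over three elements. -/
theorem card_pomega_eight_three :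
    Nat.card (Cfsg.POmega (ZMod 3) (Cfsg.quadFormPlus 4 (ZMod 3))) = 4952179814400 := by
  have h := CfsgLib.Classical.Quad.card_pomega_plus (F := ZMod 3) (show 3 ≤ 4 by norm_num)
  rw [Nat.card_zmod] at h
  simp only [Finset.prod_range_succ, Finset.prod_range_zero] at h
  norm_num at h
  omega

variable {G : Type*} [Group G] [Finite G] {D : Set G} (S : Setting D)
  (h : Cfsg.IsOfTypeM24 G D)

include S h

/-- The link quotient at one member has type M(23). -/
theorem exists_link_data : ∃ d ∈ D, (∃ u ∈ link D d, ∃ v ∈ link D d, ¬ Commute u v) ∧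
    Setting (img D d) ∧ Cfsg.IsOfTypeM23 (Quot D d) (img D d) := by
  obtain ⟨d₀, hd₀, h3, h2⟩ := CfsgLib.FischerM24.pCore_link_le_of_typeM24 S h
  obtain ⟨d, hd, SX, hX⟩ := S.quotSetting_of_typeM24 h hd₀ h3 h2
  exact ⟨d, hd, pair_of_typeM23_img hX, SX, hX⟩

/-- A member commutes with 31671 others. -/
theorem ncard_link {x : G} (hx : x ∈ D) : (link D x).ncard = 31671 := by
  obtain ⟨d, hd, hpair, SX, hX⟩ := exists_link_data S h
  obtain ⟨g, rfl⟩ := CfsgLib.ThreeTransp.class_conj S.cls hd hx
  have hinj : Function.Injective fun e => g * e * g⁻¹ := fun e f h =>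
    mul_left_cancel (mul_right_cancel h)
  rw [← CfsgLib.ThreeTrans.link_conj S.cls, Set.ncard_image_of_injective _ hinj,
    ← M23.ncard_class SX hX]
  refine Set.ncard_congr (fun w hw => toImg D d hw) (fun w hw => toImg_mem hw)
    (fun u v hu hv h => eq_of_toImg S.cls.1 (S.noCentral hd hpair) hu hv h) fun q hq => ?_
  obtain ⟨w, hw, rfl⟩ := exists_toImg hq
  exact ⟨w, hw, rfl⟩

/-- The centraliser of a member is generated by the members commuting with it. -/
theorem centralizer_eq {x : G} (hx : x ∈ D) :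
    centralizer ({x} : Set G) = closure (link D x) := by
  obtain ⟨d₀, hd₀, h3, h2⟩ := CfsgLib.FischerM24.pCore_link_le_of_typeM24 S h
  exact CfsgLib.FischerCent.centralizer_eq_of_typeM24 S h hd₀ h3 h2 hx

/-- The centraliser of a member. -/
theorem card_centralizer {x : G} (hx : x ∈ D) :
    Nat.card (centralizer ({x} : Set G)) = 8178940946586009600 := by
  obtain ⟨d₀, hd₀, h3, h2⟩ := CfsgLib.FischerM24.pCore_link_le_of_typeM24 S h
  obtain ⟨d, hd, hpair, SX, hX⟩ := exists_link_data S h
  have hsame : Nat.card (centralizer ({x} : Set G)) = Nat.card (centralizer ({d} : Set G)) := by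
    obtain ⟨a, ha, hD⟩ := S.cls.2.1
    have hc : ∀ {y : G}, y ∈ D → conjugatesOf y = D := fun {y} hy => by
      rw [hD] at hy ⊢
      exact (IsConj.conjugatesOf_eq hy).symm
    have h1 := M23.ncard_conjugatesOf_mul x
    rw [hc hx] at h1
    have h4 := M23.ncard_conjugatesOf_mul d
    rw [hc hd, ← h1] at h4
    exact (Nat.eq_of_mul_eq_mul_left ((Set.ncard_pos (Set.toFinite _)).2 ⟨x, hx⟩) h4).symm
  rw [hsame, centralizer_eq S h hd]
  obtain ⟨u, hu, -⟩ := hpair
  have hdL : d ∈ closure (link D d) := by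
    rw [← centralizer_eq S h hd]
    exact mem_centralizer_singleton_iff.2 rfl
  have hdc : (⟨d, hdL⟩ : ↥(closure (link D d))) ∈ center ↥(closure (link D d)) :=
    mem_center_iff.2 fun y => Subtype.ext (mem_centralizer_singleton_iff.1
      (CfsgLib.FischerUnique.closure_link_le_centralizer y.2))
  have hset : (center ↥(closure (link D d)) : Set ↥(closure (link D d))) = {1, ⟨d, hdL⟩} := by
    refine Set.Subset.antisymm (fun z hz => ?_) ?_
    · rcases CfsgLib.FischerUnique.center_link_le S (S.good_of_typeM24 h hd₀ h3 h2).lines hd hu hz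
        with h | h
      exacts [Or.inl (Subtype.ext h), Or.inr (Subtype.ext h)]
    · rintro z (rfl | rfl)
      exacts [one_mem _, hdc]
  have hne : (1 : ↥(closure (link D d))) ≠ ⟨d, hdL⟩ := fun h1 =>
    CfsgLib.ThreeTrans.ne_one S.cls.1 hd (congrArg Subtype.val h1).symm
  have hZ : Nat.card ↥(center ↥(closure (link D d))) = 2 := by
    rw [← SetLike.coe_sort_coe, Nat.card_coe_set_eq, hset]
    exact Set.ncard_pair hne
  have hq : Nat.card (↥(closure (link D d)) ⧸ center ↥(closure (link D d))) =
      31671 * (2 * (3510 * (2 * 9196830720))) := M23.card_group SX hX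
  rw [Subgroup.card_eq_card_quotient_mul_card_subgroup (center ↥(closure (link D d))), hq, hZ]

/-- The common centraliser at the defining pair. -/
theorem exists_card_pair : ∃ a ∈ D, ∃ c ∈ D, ¬ Commute a c ∧
    Nat.card ↥(centralizer ({a} : Set G) ⊓ centralizer ({c} : Set G)) = 29713078886400 := by
  obtain ⟨d₀, hd₀, h3, h2⟩ := CfsgLib.FischerM24.pCore_link_le_of_typeM24 S h
  obtain ⟨-, a, ha, c, hc, hac, -, N, hN, ⟨eN⟩, ⟨eS⟩⟩ := id h
  have hP := pairs_of_typeM24 S h hd₀ h3 h2 a ha c hc hac
  refine ⟨a, ha, c, hc, hac, ?_⟩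
  have hL : centralizer ({a} : Set G) ⊓ centralizer ({c} : Set G) =
      closure (link D a ∩ link D c) := by
    refine le_antisymm (fun g hg => hP.le g (mem_centralizer_singleton_iff.1 hg.1)
      (mem_centralizer_singleton_iff.1 hg.2)) ((closure_le _).2 fun w hw =>
      ⟨mem_centralizer_singleton_iff.2 hw.1.2.2.eq.symm,
        mem_centralizer_singleton_iff.2 hw.2.2.2.eq.symm⟩)
  have hcen : center ↥(closure (link D a ∩ link D c)) = ⊥ := by
    refine eq_bot_iff.2 fun z hz => ?_
    have hza : Commute (z : G) a := mem_centralizer_singleton_iff.1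
      ((hL.ge z.2).1)
    have hzc : Commute (z : G) c := mem_centralizer_singleton_iff.1
      ((hL.ge z.2).2)
    exact mem_bot.2 (Subtype.ext (hP.triv z hza hzc fun t ht =>
      (congrArg Subtype.val (mem_center_iff.1 hz ⟨t, subset_closure ht⟩)).symm))
  rw [hL, Nat.card_congr ((QuotientGroup.quotientMulEquivOfEq hcen).trans
    QuotientGroup.quotientBot).symm.toEquiv]
  have h6 := Subgroup.card_eq_card_quotient_mul_card_subgroup N
  rw [Nat.card_congr eS.toEquiv, Nat.card_congr eN.toEquiv, card_pomega_eight_three,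
    Nat.card_perm, Nat.card_fin] at h6
  exact h6.trans (by norm_num [Nat.factorial])

/-- The centraliser of a member is transitive on the members not commuting with it. -/
theorem exists_conj_noncommuting {a c y : G} (ha : a ∈ D) (hc : c ∈ D) (hy : y ∈ D)
    (hac : ¬ Commute a c) (hay : ¬ Commute a y) : ∃ k, Commute k a ∧ k * c * k⁻¹ = y := by
  obtain ⟨d, hd, ⟨u, hu, -⟩, -⟩ := exists_link_data S h
  have hedge : ∃ p ∈ D, ∃ q ∈ D, p ≠ q ∧ Commute p q := ⟨d, hd, u, hu.1, hu.2.1.symm, hu.2.2⟩
  exact CfsgLib.ThreeTrans.rel_noncommuting S.cls S.prim hedge ha hc hy hac hay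

/-- A member fails to commute with 275264 others. -/
theorem ncard_noncommuting {x : G} (hx : x ∈ D) :
    {y | y ∈ D ∧ ¬ Commute x y}.ncard = 275264 := by
  obtain ⟨a, ha, c, hc, hac, hcard⟩ := exists_card_pair S h
  obtain ⟨g, rfl⟩ := CfsgLib.ThreeTransp.class_conj S.cls ha hx
  have hinj : Function.Injective fun e => g * e * g⁻¹ := fun e f h =>
    mul_left_cancel (mul_right_cancel h)
  set M := {y | y ∈ D ∧ ¬ Commute a y} with hM
  have himg : {y | y ∈ D ∧ ¬ Commute (g * a * g⁻¹) y} = (fun e => g * e * g⁻¹) '' M := by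
    ext y
    constructor
    · rintro ⟨hy, hgy⟩
      refine ⟨g⁻¹ * y * g, ⟨?_, fun hcom => hgy ?_⟩, by group⟩
      · simpa using CfsgLib.ThreeTransp.class_conj_mem S.cls g⁻¹ hy
      · have := (CfsgLib.ThreeTrans.commute_conj_iff' g a (g⁻¹ * y * g)).2 hcom
        rwa [show g * (g⁻¹ * y * g) * g⁻¹ = y by group] at this
    · rintro ⟨e, ⟨he, hae⟩, rfl⟩
      exact ⟨CfsgLib.ThreeTransp.class_conj_mem S.cls g he,
        fun hcom => hae ((CfsgLib.ThreeTrans.commute_conj_iff' g a e).1 hcom)⟩
  rw [himg, Set.ncard_image_of_injective _ hinj]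
  have horb : {y | ∃ k ∈ centralizer ({a} : Set G), k * c * k⁻¹ = y} = M := by
    ext y
    constructor
    · rintro ⟨k, hk, rfl⟩
      have hka : k * a * k⁻¹ = a := conj_self_of_commute (mem_centralizer_singleton_iff.1 hk)
      refine ⟨CfsgLib.ThreeTransp.class_conj_mem S.cls k hc, fun hcom => hac ?_⟩
      rw [← hka] at hcom
      exact (CfsgLib.ThreeTrans.commute_conj_iff' k a c).1 hcom
    · rintro ⟨hy, hay⟩
      obtain ⟨k, hk, e⟩ := exists_conj_noncommuting S h ha hc hy hac hay
      exact ⟨k, mem_centralizer_singleton_iff.2 hk, e⟩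
  have h1 := M23.card_orbit_conj_mul (centralizer ({a} : Set G)) c
  rw [horb, hcard, card_centralizer S h ha] at h1
  omega

/-- The common centraliser of two non-commuting members. -/
theorem card_pair {a c : G} (ha : a ∈ D) (hc : c ∈ D) (hac : ¬ Commute a c) :
    Nat.card ↥(centralizer ({a} : Set G) ⊓ centralizer ({c} : Set G)) = 29713078886400 := by
  have horb : {y | ∃ k ∈ centralizer ({a} : Set G), k * c * k⁻¹ = y} =
      {y | y ∈ D ∧ ¬ Commute a y} := by
    ext y
    constructor
    · rintro ⟨k, hk, rfl⟩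
      have hka : k * a * k⁻¹ = a := conj_self_of_commute (mem_centralizer_singleton_iff.1 hk)
      refine ⟨CfsgLib.ThreeTransp.class_conj_mem S.cls k hc, fun hcom => hac ?_⟩
      rw [← hka] at hcom
      exact (CfsgLib.ThreeTrans.commute_conj_iff' k a c).1 hcom
    · rintro ⟨hy, hay⟩
      obtain ⟨k, hk, e⟩ := exists_conj_noncommuting S h ha hc hy hac hay
      exact ⟨k, mem_centralizer_singleton_iff.2 hk, e⟩
  have h1 := M23.card_orbit_conj_mul (centralizer ({a} : Set G)) c
  rw [horb, ncard_noncommuting S h ha, card_centralizer S h ha] at h1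
  omega

/-- There are 306936 members. -/
theorem ncard_class : D.ncard = 306936 := by
  obtain ⟨a, ha, -⟩ := S.cls.2.1
  set M := {x | x ∈ D ∧ ¬ Commute a x} with hM
  have hdec : D = insert a (link D a) ∪ M := by
    ext x
    simp only [hM, Set.mem_union, Set.mem_insert_iff, Set.mem_ofPred_eq]
    constructor
    · intro hx
      by_cases hxa : x = a
      · exact Or.inl (Or.inl hxa)
      by_cases hax : Commute a x
      · exact Or.inl (Or.inr ⟨hx, hxa, hax⟩)
      · exact Or.inr ⟨hx, hax⟩
    · rintro ((rfl | hx) | hx)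
      exacts [ha, hx.1, hx.1]
  have hdisj : Disjoint (insert a (link D a)) M := by
    rw [Set.disjoint_left]
    rintro x (rfl | hx) hxM
    · exact hxM.2 (Commute.refl _)
    · exact hxM.2 hx.2.2
  have hnot : a ∉ link D a := fun h => h.2.1 rfl
  rw [hdec, Set.ncard_union_eq hdisj (Set.toFinite _) (Set.toFinite _),
    Set.ncard_insert_of_notMem hnot (Set.toFinite _), ncard_link S h ha,
    ncard_noncommuting S h ha]

/-- The order of a group of type M(24). -/
theorem card_group : Nat.card G = 306936 * 8178940946586009600 := by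
  obtain ⟨d, hd, hD⟩ := S.cls.2.1
  rw [← M23.ncard_conjugatesOf_mul d, ← hD, ncard_class S h, card_centralizer S h hd]

/-- The order of a group of type M(24), factorised. -/
theorem card_group_factored :
    Nat.card G = 2 ^ 22 * 3 ^ 16 * 5 ^ 2 * 7 ^ 3 * 11 * 13 * 17 * 23 * 29 := by
  rw [card_group S h]
  norm_num

/-- The width is 24. -/
theorem commutingWidth_eq : Cfsg.commutingWidth D = 24 := by
  obtain ⟨d₀, hd₀, h3, h2⟩ := CfsgLib.FischerM24.pCore_link_le_of_typeM24 S h
  exact CfsgLib.FischerM24.width_of_typeM24 S h hd₀ h3 h2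

/-- When a member lies outside the derived group the layer has index two. -/
theorem layer_index_eq_two (hodd : ∃ x ∈ D, x ∉ commutator G) : (Cfsg.layer G).index = 2 := by
  obtain ⟨a, ha, ⟨u, hu, -⟩, -⟩ := exists_link_data S h
  have hD2 := S.prim.2.1
  have hw : ∃ p ∈ D, ∃ q ∈ D, p ≠ q ∧ Commute p q := ⟨a, ha, u, hu.1, hu.2.1.symm, hu.2.2⟩
  have h2 := CfsgLib.ThreeTransp.pCore_two_le_center S.cls S.prim
  have h3 := CfsgLib.ThreeTransp.pCore_three_le_center S.cls S.prim hw
  obtain ⟨hn, hq, hF⟩ := CfsgLib.ThreeTransp.layer_component S.cls hD2 h2 h3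
  have hidx := CfsgLib.ThreeTransp.index_le_two_of_connected S.cls hD2 h2 h3 hq hF
    (CfsgLib.ThreeTransp.commutingGraph_connected S.cls S.prim hw)
  have hne : (Cfsg.layer G).index ≠ 0 := index_ne_zero_of_finite
  rcases (show (Cfsg.layer G).index = 1 ∨ (Cfsg.layer G).index = 2 by omega) with h1 | h1
  · exfalso
    obtain ⟨x, -, hx⟩ := hodd
    apply hx
    have h4 := CfsgLib.Components.layer_commutator_self (G := G)
    rw [index_eq_one.1 h1] at h4
    rw [commutator_def, h4]
    exact mem_top x
  · exact h1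

end CfsgLib.FischerOrder.M24
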