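import Mathlib

set_option autoImplicit false

/-! The graph of the 126 points of norm one of the six-dimensional orthogonal space with an
orthonormal basis over three elements, in coordinates. -/

namespace CfsgLib.FischerOrder

/-- The supports of size four. -/
def supports : List (List ℕ) :=
  [[0, 1, 2, 3], [0, 1, 2, 4], [0, 1, 2, 5], [0, 1, 3, 4], [0, 1, 3, 5], [0, 1, 4, 5],
   [0, 2, 3, 4], [0, 2, 3, 5], [0, 2, 4, 5], [0, 3, 4, 5], [1, 2, 3, 4], [1, 2, 3, 5],
   [1, 2, 4, 5], [1, 3, 4, 5], [2, 3, 4, 5]]

/-- The coordinate `i` of the point `k`. -/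
def coordN (k i : ℕ) : ℕ :=
  if k < 6 then (if i = k then 1 else 0)
  else
    let S := supports.getD ((k - 6) / 8) []
    let s := (k - 6) % 8
    if S.getD 0 9 = i then 1
    else if S.getD 1 9 = i then 1 + s % 2
    else if S.getD 2 9 = i then 1 + s / 2 % 2
    else if S.getD 3 9 = i then 1 + s / 4
    else 0

/-- Inner product modulo three. -/
def dotN (k l : ℕ) : ℕ :=
  (coordN k 0 * coordN l 0 + coordN k 1 * coordN l 1 + coordN k 2 * coordN l 2 +
    coordN k 3 * coordN l 3 + coordN k 4 * coordN l 4 + coordN k 5 * coordN l 5) % 3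

/-- Commuting pairs. -/
def adjN (k l : Fin 126) : Bool := k == l || dotN k l == 0

/-- The inner product of `e` with the image of `y` under the reflection at `x`. -/
def dotThird (x y e : ℕ) : ℕ := (dotN y e + dotN x y * dotN x e) % 3

/-- Whether the image of `y` under the reflection at `x` has the coordinates of `m` times `e`. -/
def eqThirdMul (x y e m : ℕ) : Bool :=
  (coordN y 0 + dotN x y * coordN x 0) % 3 == (m * coordN e 0) % 3 &&
  (coordN y 1 + dotN x y * coordN x 1) % 3 == (m * coordN e 1) % 3 &&
  (coordN y 2 + dotN x y * coordN x 2) % 3 == (m * coordN e 2) % 3 &&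
  (coordN y 3 + dotN x y * coordN x 3) % 3 == (m * coordN e 3) % 3 &&
  (coordN y 4 + dotN x y * coordN x 4) % 3 == (m * coordN e 4) % 3 &&
  (coordN y 5 + dotN x y * coordN x 5) % 3 == (m * coordN e 5) % 3

/-- Pairs serving as witnesses for splitting. -/
def splitPairs : List (Fin 126 × Fin 126) :=
  [(27, 63), (44, 98), (55, 15), (32, 59), (66, 78), (122, 85), (77, 88), (109, 16),
   (43, 119), (62, 2), (96, 51), (71, 8), (68, 91), (52, 125), (38, 111), (6, 60),
   (36, 56), (49, 53), (35, 45), (120, 87), (106, 20), (19, 95), (5, 121), (100, 114),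
   (76, 92), (70, 39), (24, 49), (97, 3), (104, 67), (34, 89), (1, 98), (23, 42),
   (114, 11), (9, 56), (79, 102), (114, 47), (74, 11), (58, 103), (104, 101), (83, 72),
   (15, 71), (20, 23), (124, 18), (99, 68), (72, 112), (16, 0), (8, 110), (117, 48),
   (39, 94), (18, 94), (40, 119), (88, 37), (29, 1), (103, 29), (123, 35), (65, 60),
   (78, 7), (64, 28), (80, 4), (68, 51), (1, 19), (85, 41), (100, 36), (99, 63),
   (65, 114), (51, 14), (52, 31), (18, 84), (20, 38), (69, 100), (108, 34), (111, 77),
   (96, 63), (86, 1), (115, 86), (34, 12), (105, 26), (57, 21), (125, 82)]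

/-- `x`, `y` split the line through `e` and `f`. -/
def splits (x y e f : Fin 126) : Bool :=
  !adjN x e && !adjN x f && !adjN y e && !adjN y f && !adjN x y && dotThird x y e == 0 &&
    dotThird x y f != 0 && !eqThirdMul x y f 1 && !eqThirdMul x y f 2

/-- The base points. -/
def basePts : List (Fin 126) := [0, 1, 2, 3, 4, 5, 6, 14, 22, 78, 110, 31, 39]

/-- The candidates for `b` after the points `prev`. -/
def options (prev : List (Fin 126)) (b : Fin 126) : List (Fin 126) :=
  (List.finRange 126).filter fun x => prev.all fun p => (adjN x p == adjN b p) && ((x == p) == (b == p))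

/-- The product of the numbers of candidates. -/
def boundList : List (Fin 126) → List (Fin 126) → ℕ
  | _, [] => 1
  | prev, b :: rest => (options prev b).length * boundList (b :: prev) rest

theorem boundList_base : boundList [] basePts = 13063680 := by decide +kernel

theorem resolve_base : ∀ x y : Fin 126,
    (basePts.all fun b => (adjN x b == adjN y b) && ((x == b) == (y == b))) = true → x = y := by
  decide +kernel

theorem exists_split_pair : ∀ e f : Fin 126, (adjN e f && e != f) = true →
    (splitPairs.any fun p => splits p.1 p.2 e f) = true := by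
  decide +kernel

theorem exists_not_adj : ∀ e : Fin 126, ∃ f : Fin 126, adjN e f = false := by decide +kernel

theorem coordN_cover : ∀ a : Fin 729, ((a.1 % 3) * (a.1 % 3) + (a.1 / 3 % 3) * (a.1 / 3 % 3) +
      (a.1 / 9 % 3) * (a.1 / 9 % 3) + (a.1 / 27 % 3) * (a.1 / 27 % 3) +
      (a.1 / 81 % 3) * (a.1 / 81 % 3) + (a.1 / 243 % 3) * (a.1 / 243 % 3)) % 3 = 1 →
    ((List.finRange 126).any fun k => [1, 2].any fun m =>
      (m * coordN k 0) % 3 == a.1 % 3 && (m * coordN k 1) % 3 == a.1 / 3 % 3 &&
      (m * coordN k 2) % 3 == a.1 / 9 % 3 && (m * coordN k 3) % 3 == a.1 / 27 % 3 &&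
      (m * coordN k 4) % 3 == a.1 / 81 % 3 && (m * coordN k 5) % 3 == a.1 / 243 % 3) = true := by
  decide +kernel

theorem coordN_sep : ∀ k l : Fin 126,
    ((coordN k 0 == coordN l 0 && coordN k 1 == coordN l 1 && coordN k 2 == coordN l 2 &&
      coordN k 3 == coordN l 3 && coordN k 4 == coordN l 4 && coordN k 5 == coordN l 5) ||
    (coordN k 0 == (2 * coordN l 0) % 3 && coordN k 1 == (2 * coordN l 1) % 3 &&
      coordN k 2 == (2 * coordN l 2) % 3 && coordN k 3 == (2 * coordN l 3) % 3 &&
      coordN k 4 == (2 * coordN l 4) % 3 && coordN k 5 == (2 * coordN l 5) % 3)) = true → k = l := by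
  decide +kernel

end CfsgLib.FischerOrder
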