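import Mathlib
import Cfsg.Agent.Lib.FischerOrder.Graph

set_option autoImplicit false

/-! At most 13063680 permutations preserve the commuting graph of the 126 points. -/

namespace CfsgLib.FischerOrder

open Subgroup

variable {K : Type*} [Group K] [Finite K] (φ : K →* Equiv.Perm (Fin 126))
  (hpres : ∀ (g : K) (i j : Fin 126), adjN (φ g i : Fin 126) (φ g j : Fin 126) = adjN i j)

include hpres

theorem map_mem_options {prev : List (Fin 126)} {g : K} (hfix : ∀ p ∈ prev, φ g p = p)
    (b : Fin 126) : φ g b ∈ options prev b := by
  rw [options, List.mem_filter]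
  refine ⟨List.mem_finRange _, List.all_eq_true.2 fun p hp => ?_⟩
  have h1 : adjN (φ g b : Fin 126) p = adjN b p := by
    conv_lhs => rw [← hfix p hp]
    exact hpres g b p
  have h2 : (φ g b == p) = (b == p) := by
    rw [Bool.eq_iff_iff, beq_iff_eq, beq_iff_eq]
    conv_lhs => rw [← hfix p hp]
    exact (φ g).injective.eq_iff
  simp [h1, h2]

theorem card_le_boundList : ∀ (rest prev : List (Fin 126)) (H : Subgroup K),
    (∀ g ∈ H, ∀ p ∈ prev, φ g p = p) →
    (∀ g ∈ H, (∀ p ∈ rest, φ g p = p) → g = 1) → Nat.card H ≤ boundList prev rest
  | [], _, H, _, hone => by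
    have : H = ⊥ := (eq_bot_iff_forall _).2 fun g hg => hone g hg fun p hp => nomatch hp
    rw [this, boundList, Subgroup.card_bot]
  | b :: rest, prev, H, hfix, hone => by
    let S : Subgroup K :=
      { carrier := {g | g ∈ H ∧ φ g b = b}
        one_mem' := ⟨one_mem H, by simp⟩
        mul_mem' := fun {g h} hg hh => ⟨mul_mem hg.1 hh.1, by rw [map_mul, Equiv.Perm.mul_apply, hh.2, hg.2]⟩
        inv_mem' := fun {g} hg => ⟨inv_mem hg.1, by
          rw [map_inv, Equiv.Perm.inv_eq_iff_eq, hg.2]⟩ }
    have hS : S ≤ H := fun g hg => hg.1
    have ih := card_le_boundList rest (b :: prev) S (fun g hg p hp => by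
        rcases List.mem_cons.1 hp with rfl | hp
        · exact hg.2
        · exact hfix g hg.1 p hp) (fun g hg h => hone g hg.1 fun p hp => by
        rcases List.mem_cons.1 hp with rfl | hp
        · exact hg.2
        · exact h p hp)
    have hidx : (S.subgroupOf H).index ≤ (options prev b).length := by
      classical
      let f : ↥H ⧸ S.subgroupOf H → {x // x ∈ (options prev b).toFinset} :=
        Quotient.lift (fun h : ↥H => ⟨φ h b, List.mem_toFinset.2
          (map_mem_options φ hpres (hfix h h.2) b)⟩) (fun x y hxy => by
          have h1 : x⁻¹ * y ∈ S.subgroupOf H := QuotientGroup.leftRel_apply.1 hxy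
          have h2 : φ ((x⁻¹ * y : ↥H) : K) b = b := h1.2
          refine Subtype.ext ?_
          show φ (x : K) b = φ (y : K) b
          rw [Subgroup.coe_mul, Subgroup.coe_inv, map_mul, map_inv, Equiv.Perm.mul_apply,
            Equiv.Perm.inv_eq_iff_eq] at h2
          exact h2.symm)
      have hf : Function.Injective f := by
        intro x y h
        induction x using QuotientGroup.induction_on with
        | _ x =>
          induction y using QuotientGroup.induction_on with
          | _ y =>
            refine QuotientGroup.eq.2 ⟨(x⁻¹ * y : ↥H).2, ?_⟩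
            have h' : φ (x : K) b = φ (y : K) b := congrArg Subtype.val h
            show φ ((x⁻¹ * y : ↥H) : K) b = b
            rw [Subgroup.coe_mul, Subgroup.coe_inv, map_mul, map_inv, Equiv.Perm.mul_apply,
              Equiv.Perm.inv_eq_iff_eq, h']
      calc (S.subgroupOf H).index = Nat.card (↥H ⧸ S.subgroupOf H) := rfl
        _ ≤ Nat.card {x // x ∈ (options prev b).toFinset} := Nat.card_le_card_of_injective f hf
        _ ≤ (options prev b).length := by
          rw [Nat.card_eq_fintype_card, Fintype.card_coe]
          exact List.toFinset_card_le _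
    calc Nat.card H = (S.subgroupOf H).index * Nat.card (S.subgroupOf H) :=
          (Subgroup.index_mul_card _).symm
      _ = (S.subgroupOf H).index * Nat.card S := by
          rw [Nat.card_congr (Subgroup.subgroupOfEquivOfLe hS).toEquiv]
      _ ≤ _ := Nat.mul_le_mul hidx ih

/-- A faithful group of permutations preserving the graph has order at most 13063680. -/
theorem card_le_of_preserves (hinj : Function.Injective φ) : Nat.card K ≤ 13063680 := by
  have h := card_le_boundList φ hpres basePts [] ⊤ (fun _ _ p hp => nomatch hp) fun g _ hg => by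
    refine hinj (Equiv.ext fun x => ?_)
    rw [map_one, Equiv.Perm.one_apply]
    refine resolve_base _ _ (List.all_eq_true.2 fun b hb => ?_)
    have h1 : adjN (φ g x : Fin 126) b = adjN x b := by
      conv_lhs => rw [← hg b hb]
      exact hpres g x b
    have h2 : (φ g x == b) = (x == b) := by
      rw [Bool.eq_iff_iff, beq_iff_eq, beq_iff_eq]
      conv_lhs => rw [← hg b hb]
      exact (φ g).injective.eq_iff
    simp [h1, h2]
  rwa [boundList_base, Subgroup.card_top] at h

end CfsgLib.FischerOrder
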