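import Mathlib
import Cfsg.Agent.Lib.ThreeTrans.Basic
import Cfsg.Agent.Lib.ThreeTrans.RankThree

set_option autoImplicit false

/-! A homomorphism of exponent two from the centraliser of a member of a class of 3-transpositions,
killing the members there, is trivial when any four members have a member commuting with none of
them: such a homomorphism is a double cover of the graph of non-commuting pairs in which all
triangles are split. -/

namespace CfsgLib.FischerOrder

open Subgroup
open CfsgLib.ThreeTrans (mul_self inv_eq cube_eq_one braid conj_self_of_commute commute_conj_iff')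
open CfsgLib.ThreeTransp (class_conj_mem class_conj)

variable {G : Type*} [Group G] {D : Set G}

/-- The commutator of two elements of order three generating an exponent three group cubes to one. -/
theorem comm_cube {a b : G} (ha : a ^ 3 = 1) (hb : b ^ 3 = 1) (hab : (a * b) ^ 3 = 1)
    (hab' : (a * b⁻¹) ^ 3 = 1) : (a⁻¹ * (b⁻¹ * a * b)) ^ 3 = 1 := by
  have e3 : a * b * a = b⁻¹ * a⁻¹ * b⁻¹ := by
    have : (a * b * a) * (b * a * b) = 1 := by
      rw [← hab]; simp only [pow_succ, pow_zero, one_mul, mul_assoc]
    rw [eq_inv_of_mul_eq_one_left this, mul_inv_rev, mul_inv_rev, mul_assoc]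
  have e4 : a * b⁻¹ * a = b * a⁻¹ * b := by
    have : (a * b⁻¹ * a) * (b⁻¹ * a * b⁻¹) = 1 := by
      rw [← hab']; simp only [pow_succ, pow_zero, one_mul, mul_assoc]
    rw [eq_inv_of_mul_eq_one_left this, mul_inv_rev, mul_inv_rev, inv_inv, mul_assoc]
  have hb2 : b * b = b⁻¹ := (inv_eq_of_mul_eq_one_right (by
    rw [← hb]; simp only [pow_succ, pow_zero, one_mul, mul_assoc])).symm
  have hb1 : b⁻¹ * b⁻¹ = b := by rw [← mul_inv_rev, hb2, inv_inv]
  have hc : Commute a (b * a * b⁻¹) := by
    show a * (b * a * b⁻¹) = b * a * b⁻¹ * a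
    calc a * (b * a * b⁻¹) = (a * b * a) * b⁻¹ := by simp only [mul_assoc]
      _ = b⁻¹ * a⁻¹ * (b⁻¹ * b⁻¹) := by rw [e3]; simp only [mul_assoc]
      _ = (b * b) * a⁻¹ * b := by rw [hb1, hb2]
      _ = b * (a * b⁻¹ * a) := by rw [e4]; simp only [mul_assoc]
      _ = b * a * b⁻¹ * a := by simp only [mul_assoc]
  have hc' : Commute a⁻¹ (b⁻¹ * a * b) := by
    refine Commute.inv_left ((commute_conj_iff' b a (b⁻¹ * a * b)).1 ?_)
    rw [show b * (b⁻¹ * a * b) * b⁻¹ = a by group]
    exact hc.symm
  rw [hc'.mul_pow, inv_pow, ha, inv_one, one_mul,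
    show b⁻¹ * a * b = MulAut.conj b⁻¹ a by simp [MulAut.conj_apply], ← map_pow, ha, map_one]

variable {A : Type*} [CommGroup A]

/-- A member of `D` conjugating a member to a given one. -/
theorem mid_conj (hset : Cfsg.IsThreeTranspositionSet D) {x y : G} (hx : x ∈ D) (hy : y ∈ D)
    (h : ¬ Commute x y) : x * y * x * x * (x * y * x) = y := by
  have hxx := mul_self hset hx
  have hb := braid hset hx hy h
  calc x * y * x * x * (x * y * x) = x * y * (x * x) * x * y * x := by simp only [mul_assoc]
    _ = x * (y * x * y) * x := by rw [hxx, mul_one]; simp only [mul_assoc]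
    _ = (x * x) * y * (x * x) := by rw [← hb]; simp only [mul_assoc]
    _ = y := by rw [hxx, one_mul, mul_one]

/-- A homomorphism of exponent two on the centraliser of `a` killing the members there is trivial. -/
theorem hom_trivial (hD : Cfsg.IsThreeTranspositionClass D) {a : G} (ha : a ∈ D)
    (χ : ↥(centralizer ({a} : Set G)) →* A) (hA : ∀ x : A, x * x = 1)
    (hkill : ∀ e : ↥(centralizer ({a} : Set G)), (e : G) ∈ D → χ e = 1)
    (hcov : ∀ p ∈ D, ∀ q ∈ D, ∀ r ∈ D, ∀ s ∈ D, ∃ w ∈ D, ¬ Commute p w ∧ ¬ Commute q w ∧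
      ¬ Commute r w ∧ ¬ Commute s w) (g : ↥(centralizer ({a} : Set G))) : χ g = 1 := by
  classical
  have hset := hD.1
  obtain ⟨-, hconj, hgen⟩ := CfsgLib.ThreeTransp.class_to_group hD
  -- a conjugating element for every member
  have hex : ∀ y, ∃ t : G, y ∈ D → t * a * t⁻¹ = y := by
    intro y
    by_cases hy : y ∈ D
    · obtain ⟨t, ht⟩ := class_conj hD ha hy
      exact ⟨t, fun _ => ht⟩
    · exact ⟨1, fun h => absurd h hy⟩
  choose t ht using hex
  let ext : G → A := fun u => if h : u ∈ centralizer ({a} : Set G) then χ ⟨u, h⟩ else 1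
  have ext_mul : ∀ {u v : G}, u ∈ centralizer ({a} : Set G) → v ∈ centralizer ({a} : Set G) →
      ext (u * v) = ext u * ext v := by
    intro u v hu hv
    simp only [ext, dif_pos hu, dif_pos hv, dif_pos (mul_mem hu hv)]
    exact map_mul χ ⟨u, hu⟩ ⟨v, hv⟩
  have ext_coe : ∀ u : ↥(centralizer ({a} : Set G)), ext u = χ u := fun u => by
    simp only [ext, dif_pos u.2]
  have inC : ∀ {u : G}, u * a * u⁻¹ = a → u ∈ centralizer ({a} : Set G) := fun {u} h =>
    mem_centralizer_singleton_iff.2 (mul_inv_eq_iff_eq_mul.1 h)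
  -- transported elements
  let K : G → G → A := fun u y => ext ((t (u * y * u⁻¹))⁻¹ * u * t y)
  have kmem : ∀ u : G, ∀ y ∈ D, (t (u * y * u⁻¹))⁻¹ * u * t y ∈ centralizer ({a} : Set G) := by
    intro u y hy
    refine inC ?_
    have h1 := ht _ (hconj u y hy)
    have h2 := ht y hy
    calc _ = (t (u * y * u⁻¹))⁻¹ * (u * (t y * a * (t y)⁻¹) * u⁻¹) * t (u * y * u⁻¹) := by group
      _ = (t (u * y * u⁻¹))⁻¹ * (t (u * y * u⁻¹) * a * (t (u * y * u⁻¹))⁻¹) * t (u * y * u⁻¹) := by
        rw [h2, h1]
      _ = a := by group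
  have kmul : ∀ u v : G, ∀ y ∈ D, K (u * v) y = K u (v * y * v⁻¹) * K v y := by
    intro u v y hy
    have e : u * v * y * (u * v)⁻¹ = u * (v * y * v⁻¹) * u⁻¹ := by group
    show ext _ = ext _ * ext _
    rw [← ext_mul (kmem u _ (hconj v y hy)) (kmem v y hy), e]
    congr 1
    group
  have kone : ∀ y, K 1 y = 1 := fun y => by
    show ext _ = 1
    rw [one_mul, inv_one, mul_one, mul_one, inv_mul_cancel, ← Subgroup.coe_one
      (H := centralizer ({a} : Set G)), ext_coe, map_one]
  -- an element fixing a member acts through `χ`; members of `D` are killed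
  have kfix : ∀ e ∈ D, ∀ y ∈ D, Commute e y → ext ((t y)⁻¹ * e * t y) = 1 := by
    intro e he y hy hey
    have hm : (t y)⁻¹ * e * t y ∈ centralizer ({a} : Set G) := by
      have := kmem e y hy
      rwa [conj_self_of_commute hey] at this
    have hmD : (t y)⁻¹ * e * t y ∈ D := by simpa using hconj (t y)⁻¹ e he
    simp only [ext, dif_pos hm]
    exact hkill ⟨_, hm⟩ hmD
  -- labels of the edges
  let L : G → G → A := fun x y => ext ((t y)⁻¹ * (x * y * x) * t x)
  have lmem : ∀ x ∈ D, ∀ y ∈ D, ¬ Commute x y →
      (t y)⁻¹ * (x * y * x) * t x ∈ centralizer ({a} : Set G) := by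
    intro x hx y hy h
    have hm : x * y * x ∈ D := by
      have := hconj x y hy
      rwa [inv_eq hset hx] at this
    have h1 := kmem (x * y * x) x hx
    rwa [inv_eq hset hm, mid_conj hset hx hy h] at h1
  have lsymm : ∀ x ∈ D, ∀ y ∈ D, ¬ Commute x y → L y x = L x y := by
    intro x hx y hy h
    have h' : ¬ Commute y x := fun k => h k.symm
    have hb := braid hset hx hy h
    have hm : x * y * x * (x * y * x) = 1 := by
      calc x * y * x * (x * y * x) = x * y * (x * x) * y * x := by simp only [mul_assoc]
        _ = x * (y * y) * x := by rw [mul_self hset hx, mul_one]; simp only [mul_assoc]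
        _ = 1 := by rw [mul_self hset hy, mul_one, mul_self hset hx]
    have h1 : L y x * L x y = 1 := by
      show ext _ * ext _ = 1
      rw [← ext_mul (lmem y hy x hx h') (lmem x hx y hy h)]
      have : (t x)⁻¹ * (y * x * y) * t y * ((t y)⁻¹ * (x * y * x) * t x) = 1 := by
        calc _ = (t x)⁻¹ * (y * x * y * (x * y * x)) * t x := by group
          _ = 1 := by rw [← hb, hm, mul_one, inv_mul_cancel]
      rw [this, ← Subgroup.coe_one (H := centralizer ({a} : Set G)), ext_coe, map_one]
    exact (eq_inv_of_mul_eq_one_left h1).trans (inv_eq_of_mul_eq_one_left (hA _))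
  have tri : ∀ x ∈ D, ∀ y ∈ D, ∀ z ∈ D, ¬ Commute x y → ¬ Commute y z → ¬ Commute z x →
      L x y * L y z * L z x = 1 := by
    intro x hx y hy z hz hxy hyz hzx
    have hxx := mul_self hset hx
    have hyy := mul_self hset hy
    have hzz := mul_self hset hz
    set g := z * x * z * (y * z * y) * (x * y * x) with hg
    have e : L x y * L y z * L z x = ext ((t x)⁻¹ * g * t x) := by
      have m1 := lmem x hx y hy hxy
      have m2 := lmem y hy z hz hyz
      have m3 := lmem z hz x hx hzx
      have : (t x)⁻¹ * g * t x = (t x)⁻¹ * (z * x * z) * t z * ((t z)⁻¹ * (y * z * y) * t y) *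
          ((t y)⁻¹ * (x * y * x) * t x) := by rw [hg]; group
      rw [this, ext_mul (mul_mem m3 m2) m1, ext_mul m3 m2]
      show L x y * L y z * L z x = L z x * L y z * L x y
      rw [mul_comm (L x y), mul_comm (L y z) (L x y), mul_comm (L z x), mul_assoc]
      ac_rfl
    rw [e]
    have hgC : (t x)⁻¹ * g * t x ∈ centralizer ({a} : Set G) := by
      have m1 := lmem x hx y hy hxy
      have m2 := lmem y hy z hz hyz
      have m3 := lmem z hz x hx hzx
      have := mul_mem (mul_mem m3 m2) m1
      convert this using 1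
      rw [hg]; group
    have hgx : Commute g x := by
      have h1 := mem_centralizer_singleton_iff.1 hgC
      have h2 := (commute_conj_iff' (t x) _ a).2 h1
      rwa [ht x hx, show t x * ((t x)⁻¹ * g * t x) * (t x)⁻¹ = g by group] at h2
    by_cases hcase : Commute z (x * y * x)
    · have hq : g = y * z * y := by
        calc g = z * x * z * (z * y * z) * (x * y * x) := by rw [hg, braid hset hy hz hyz]
          _ = z * x * (z * z) * y * (z * (x * y * x)) := by simp only [mul_assoc]
          _ = z * x * y * ((x * y * x) * z) := by rw [hzz, mul_one, hcase.eq]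
          _ = z * x * y * ((y * x * y) * z) := by rw [braid hset hx hy hxy]
          _ = z * x * (y * y) * x * y * z := by simp only [mul_assoc]
          _ = z * (x * x) * y * z := by rw [hyy, mul_one]; simp only [mul_assoc]
          _ = y * z * y := by rw [hxx, mul_one, braid hset hy hz hyz]
      have hqD : g ∈ D := by
        have := hconj y z hz
        rw [inv_eq hset hy, ← hq] at this
        exact this
      exact kfix g hqD x hx hgx
    · -- the affine case: `g * x` cubes to one
      have hA1 : (x * z) ^ 3 = 1 := cube_eq_one hset hx hz fun k => hzx k.symm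
      have hB1 : (x * y) ^ 3 = 1 := cube_eq_one hset hx hy hxy
      have hr : x * z * x ∈ D := by
        have := hconj x z hz
        rwa [inv_eq hset hx] at this
      have hry : ¬ Commute (x * z * x) y := by
        intro k
        refine hcase ?_
        have := (commute_conj_iff' x _ _).2 k
        rwa [inv_eq hset hx, show x * (x * z * x) * x = (x * x) * z * (x * x) by
          simp only [mul_assoc], hxx, one_mul, mul_one] at this
      have hAB : (x * z * (x * y)) ^ 3 = 1 := by
        rw [← mul_assoc]
        exact cube_eq_one hset hr hy hry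
      have hAB' : (x * z * (x * y)⁻¹) ^ 3 = 1 := by
        rw [mul_inv_rev, inv_eq hset hx, inv_eq hset hy,
          show x * z * (y * x) = MulAut.conj x (z * y) by
            simp [MulAut.conj_apply, inv_eq hset hx, mul_assoc], ← map_pow,
          cube_eq_one hset hz hy fun k => hyz k.symm, map_one]
      have h3 : (g * x) ^ 3 = 1 := by
        have h := comm_cube hA1 hB1 hAB hAB'
        have : g * x = (x * z)⁻¹ * ((x * y)⁻¹ * (x * z) * (x * y)) := by
          rw [hg, mul_inv_rev, mul_inv_rev, inv_eq hset hx, inv_eq hset hy, inv_eq hset hz,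
            braid hset hy hz hyz]
          calc z * x * z * (z * y * z) * (x * y * x) * x
              = z * x * (z * z) * y * z * x * y * (x * x) := by simp only [mul_assoc]
            _ = z * x * y * z * x * y := by rw [hzz, hxx, mul_one, mul_one]
            _ = z * x * (y * (x * x) * z * (x * y)) := by rw [hxx, mul_one]; simp only [mul_assoc]
            _ = _ := by simp only [mul_assoc]
        rwa [this]
      have hxm : (t x)⁻¹ * x * t x ∈ centralizer ({a} : Set G) := by
        have := kmem x x hx
        rwa [conj_self_of_commute (Commute.refl x)] at this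
      have hk := kfix x hx x hx (Commute.refl x)
      have e2 : ((t x)⁻¹ * g * t x) * ((t x)⁻¹ * x * t x) = (t x)⁻¹ * (g * x) * t x := by group
      have hsum := ext_mul hgC hxm
      rw [e2, hk, mul_one] at hsum
      have hm : (t x)⁻¹ * (g * x) * t x ∈ centralizer ({a} : Set G) := e2 ▸ mul_mem hgC hxm
      rw [← hsum]
      have hpow : ((t x)⁻¹ * (g * x) * t x) ^ 3 = 1 := by
        have : (t x)⁻¹ * (g * x) * t x = MulAut.conj (t x)⁻¹ (g * x) := by simp [MulAut.conj_apply]
        rw [this, ← map_pow, h3, map_one]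
      have hc3 : (⟨_, hm⟩ : ↥(centralizer ({a} : Set G))) ^ 3 = 1 :=
        Subtype.ext ((SubmonoidClass.coe_pow _ 3).trans hpow)
      have := congrArg χ hc3
      simp only [ext, dif_pos hm]
      rwa [map_pow, map_one, pow_succ, pow_two, hA, one_mul] at this
  -- a function whose differences are the labels
  have hw : ∀ u, ∃ w, u ∈ D → w ∈ D ∧ ¬ Commute a w ∧ ¬ Commute w u := by
    intro u
    by_cases hu : u ∈ D
    · obtain ⟨w, hw, h1, h2, -⟩ := hcov a ha u hu a ha a ha
      exact ⟨w, fun _ => ⟨hw, h1, fun h => h2 h.symm⟩⟩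
    · exact ⟨a, fun h => absurd h hu⟩
  choose w hw using hw
  let f : G → A := fun u => L a (w u) * L (w u) u
  have sq : ∀ (X Y Z : A), X * Y * Z = 1 → Z = X * Y := fun X Y Z h =>
    (eq_inv_of_mul_eq_one_right h).trans (inv_eq_of_mul_eq_one_left (hA _))
  have fN : ∀ v ∈ D, ¬ Commute a v → f v = L a v := by
    intro v hv hav
    obtain ⟨hwD, haw, hwv⟩ := hw v hv
    show L a (w v) * L (w v) v = L a v
    rw [← lsymm a ha v hv hav]
    exact (sq _ _ _ (tri a ha _ hwD v hv haw hwv fun h => hav h.symm)).symm
  have edge : ∀ u ∈ D, ∀ v ∈ D, ¬ Commute a v → ¬ Commute v u → f u = L a v * L v u := by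
    intro u hu v hv hav hvu
    obtain ⟨hwD, haw, hwu⟩ := hw u hu
    obtain ⟨z, hz, hza, hzu, hzw, hzv⟩ := hcov a ha u hu _ hwD v hv
    have step : ∀ p ∈ D, ¬ Commute a p → ¬ Commute p u → ¬ Commute p z →
        L a p * L p u = L a z * L z u := by
      intro p hp hap hpu hpz
      have t1 := tri a ha p hp z hz hap hpz fun h => hza h.symm
      have t2 := tri p hp u hu z hz hpu hzu fun h => hpz h.symm
      rw [lsymm a ha z hz hza] at t1
      rw [lsymm p hp z hz hpz, lsymm z hz u hu fun h => hzu h.symm] at t2
      rw [sq _ _ _ t1, sq (L p u) (L z u) (L p z) t2]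
      have : L a p * (L p u * L z u) * L z u = L a p * L p u := by
        rw [mul_assoc (L a p), mul_assoc (L p u), hA, mul_one]
      rw [this]
    exact (step _ hwD haw hwu hzw).trans (step v hv hav hvu hzv).symm
  have hlab : ∀ x ∈ D, ∀ y ∈ D, ¬ Commute x y → L x y = f x * f y := by
    intro x hx y hy hxy
    obtain ⟨v, hv, hva, hvx, hvy, -⟩ := hcov a ha x hx y hy a ha
    rw [edge x hx v hv hva fun h => hvx h.symm, edge y hy v hv hva fun h => hvy h.symm]
    have t := tri x hx y hy v hv hxy hvy fun h => hvx h.symm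
    rw [lsymm x hx v hv hvx, lsymm v hv y hy fun h => hvy h.symm] at t
    rw [lsymm x hx v hv hvx]
    have e := sq _ _ _ t
    -- `L x v = L x y * L v y`
    calc L x y = L x y * (L v y * L v y) * (L a v * L a v) := by rw [hA, hA, mul_one, mul_one]
      _ = (L a v * L x v) * (L a v * L v y) := by rw [e]; ac_rfl
  have hmemb : ∀ e ∈ D, ∀ y ∈ D, K e y = f y * f (e * y * e⁻¹) := by
    intro e he y hy
    by_cases hc : Commute e y
    · show ext _ = _
      rw [conj_self_of_commute hc, hA]
      exact kfix e he y hy hc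
    · have hzD : e * y * e⁻¹ ∈ D := hconj e y hy
      have hyz : ¬ Commute y (e * y * e⁻¹) := by
        intro h
        refine hc ?_
        have e1 : e * y * e⁻¹ = y * e * y⁻¹ := by
          rw [inv_eq hset he, inv_eq hset hy]; exact braid hset he hy hc
        rw [e1] at h
        have h' := (commute_conj_iff' y y e).1 (by rwa [mul_inv_cancel_right])
        exact h'.symm
      have hmid : y * (e * y * e⁻¹) * y = e := by
        have hb := braid hset he hy hc
        rw [inv_eq hset he, hb]
        calc y * (y * e * y) * y = (y * y) * e * (y * y) := by simp only [mul_assoc]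
          _ = e := by rw [mul_self hset hy, one_mul, mul_one]
      have := hlab y hy _ hzD hyz
      show ext _ = _
      simp only [L] at this
      rwa [hmid] at this
  have hall : ∀ u : G, ∀ y ∈ D, K u y = f y * f (u * y * u⁻¹) := by
    intro u
    have hu : u ∈ closure D := hgen ▸ mem_top u
    induction hu using closure_induction'' with
    | mem e he => exact fun y hy => hmemb e he y hy
    | inv_mem e he => rw [inv_eq hset he]; exact fun y hy => hmemb e he y hy
    | one => intro y hy; rw [kone, one_mul, inv_one, mul_one, hA]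
    | mul p q _ _ hp hq =>
      intro y hy
      rw [kmul p q y hy, hp _ (hconj q y hy), hq y hy,
        show p * q * y * (p * q)⁻¹ = p * (q * y * q⁻¹) * p⁻¹ by group]
      calc _ = f y * f (p * (q * y * q⁻¹) * p⁻¹) * (f (q * y * q⁻¹) * f (q * y * q⁻¹)) := by ac_rfl
        _ = _ := by rw [hA, mul_one]
  have hga : (g : G) * a * (g : G)⁻¹ = a :=
    conj_self_of_commute (mem_centralizer_singleton_iff.1 g.2)
  have h := hall g a ha
  rw [hga, hA] at h
  have htm : t a ∈ centralizer ({a} : Set G) := inC (ht a ha)
  rw [show K g a = ext ((t a)⁻¹ * g * t a) by show ext _ = _; rw [hga]] at h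
  rw [ext_mul (mul_mem (inv_mem htm) g.2) htm, ext_mul (inv_mem htm) g.2, ext_coe,
    mul_comm (ext (t a)⁻¹), mul_assoc, ← ext_mul (inv_mem htm) htm, inv_mul_cancel] at h
  rwa [← Subgroup.coe_one (H := centralizer ({a} : Set G)), ext_coe, map_one, mul_one] at h

end CfsgLib.FischerOrder
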