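import Cfsg.Agent.Lib.FischerType.SymBase

set_option autoImplicit false

/-! The three further transvections on the line through two commuting transvections, in the unitary
group of dimension six over four elements. -/

namespace CfsgLib.FischerOrder

open Module CfsgLib.Classical.Herm HermSpace CfsgLib.UnitaryTransv CfsgLib.U6Cover
open CfsgLib.FischerType.U6

/-- `p` is a third member on the line of the commuting members `b`, `c`. -/
def Rad {A : Type*} [Group A] (T : Set A) (b c p : A) : Prop :=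
  p ∈ T ∧ p ≠ b ∧ p ≠ c ∧ ∀ z ∈ T, Commute z b → Commute z c → Commute z p

/-- The facts about lines used later. -/
structure LineFacts {A : Type*} [Group A] (T : Set A) : Prop where
  exists_on : ∀ b ∈ T, ∀ c ∈ T, b ≠ c → Commute b c → ∀ x ∈ T, ¬ Commute x b → ¬ Commute x c →
    ∃ p, Rad T b c p ∧ Commute x p
  unique_on : ∀ b ∈ T, ∀ c ∈ T, b ≠ c → Commute b c → ∀ x ∈ T, ¬ Commute x b → ¬ Commute x c →
    ∀ p q, Rad T b c p → Rad T b c q → Commute x p → Commute x q → p = q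
  three : ∀ b ∈ T, ∀ c ∈ T, b ≠ c → Commute b c → ∀ p q r s, Rad T b c p → Rad T b c q →
    Rad T b c r → Rad T b c s → p ≠ q → p ≠ r → q ≠ r → s = p ∨ s = q ∨ s = r
  closed : ∀ b ∈ T, ∀ c ∈ T, b ≠ c → Commute b c → ∀ p, Rad T b c p → ∀ x ∈ T, Commute x b →
    Commute x p → Commute x c
  project : ∀ b ∈ T, ∀ a ∈ T, ¬ Commute b a → ∀ y ∈ T, y ≠ b → Commute y b →
    ∃ f ∈ T, f ≠ b ∧ Commute f b ∧ Commute f a ∧ (y = f ∨ Rad T b f y)

variable {F : Type*} [Field F] [Fintype F] (hF : Fintype.card F = 2 ^ 2)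

local notation "𝓗" => stdHerm hF 6
local notation "𝕍" => (Fin 6 → F)
local notation "𝕋" => tvSet hF (n := 6)

theorem ptv_congr' {a b : 𝕍} {t : F} (ht : t ≠ 0) (hb : (𝓗).h b b = 0) (ha : (𝓗).h a a = 0)
    (h : a = t • b) : ptv hF a ha = ptv hF b hb :=
  congrArg (proj hF) (Subtype.ext (tv_smul hF ht hb ha h))

theorem comb_isotropic {b c : 𝕍} (hb : (𝓗).h b b = 0) (hc : (𝓗).h c c = 0)
    (hcb : (𝓗).h c b = 0) (α β : F) : (𝓗).h (α • b + β • c) (α • b + β • c) = 0 := by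
  simp [-stdHerm_h, (𝓗).add_left, (𝓗).add_right, (𝓗).smul_left, (𝓗).smul_right, hb, hc, hcb,
    (𝓗).h_comm_zero hcb]

theorem rad_iff {b c : 𝕍} (hb : (𝓗).h b b = 0) (hb0 : b ≠ 0) (hc : (𝓗).h c c = 0) (hc0 : c ≠ 0)
    (hcb : (𝓗).h c b = 0) (hne : ptv hF b hb ≠ ptv hF c hc) (p : Cfsg.PSU 6 F 2) :
    Rad 𝕋 (ptv hF b hb) (ptv hF c hc) p ↔
      ∃ α β : F, ∃ hp : (𝓗).h (α • b + β • c) (α • b + β • c) = 0,
        α ≠ 0 ∧ β ≠ 0 ∧ p = ptv hF (α • b + β • c) hp := by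
  have hind := independent_of_ne hF hb hb0 hc hne
  constructor
  · rintro ⟨⟨v, hv, hv0, rfl⟩, hvb, hvc, hall⟩
    obtain ⟨α, β, rfl⟩ := exists_comb_line hF hc0 hind (z := v) fun k hk0 hk hkb hkc => by
      refine orth_of_commute_ptv hF hk hv hv0 ?_
      exact hall _ (ptv_mem hF hk hk0) (commute_ptv hF hb hk hkb).symm
        (commute_ptv hF hc hk hkc).symm
    refine ⟨α, β, hv, fun h => hvc ?_, fun h => hvb ?_, rfl⟩
    · exact ptv_congr' hF (t := β) (fun h' => hv0 (by rw [h, h', zero_smul, zero_smul, add_zero])) hc hv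
        (by rw [h, zero_smul, zero_add])
    · exact ptv_congr' hF (t := α) (fun h' => hv0 (by rw [h, h', zero_smul, zero_smul, add_zero])) hb hv
        (by rw [h, zero_smul, add_zero])
  · rintro ⟨α, β, hp, hα, hβ, rfl⟩
    have hp0 : α • b + β • c ≠ 0 := fun h => hind (-(β / α)) (by
      have h1 : α • b = -(β • c) := eq_neg_of_add_eq_zero_left h
      have h2 := congrArg (α⁻¹ • ·) h1
      simp only [smul_smul, inv_mul_cancel₀ hα, one_smul, smul_neg] at h2
      rw [h2, neg_smul, div_eq_inv_mul])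
    refine ⟨ptv_mem hF hp hp0, ?_, ?_, ?_⟩
    · refine ne_of_independent hF hp hb hb0 fun t ht => ?_
      have h1 : (t - α) • b = β • c := by rw [sub_smul, ht]; abel
      by_cases hta : t - α = 0
      · rw [hta, zero_smul] at h1
        exact hc0 ((smul_eq_zero.1 h1.symm).resolve_left hβ)
      · exact hind ((t - α)⁻¹ * β) (by rw [mul_smul, ← h1, smul_smul, inv_mul_cancel₀ hta, one_smul])
    · refine ne_of_independent hF hp hc hc0 fun t ht => ?_
      have h1 : (t - β) • c = α • b := by rw [sub_smul, ht]; abel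
      exact hind (α⁻¹ * (t - β)) (by rw [mul_smul, h1, smul_smul, inv_mul_cancel₀ hα, one_smul])
    · rintro _ ⟨z, hz, hz0, rfl⟩ hzb hzc
      refine commute_ptv hF hz hp ?_
      rw [(𝓗).add_left, (𝓗).smul_left, (𝓗).smul_left,
        orth_of_commute_ptv hF hz hb hb0 hzb, orth_of_commute_ptv hF hz hc hc0 hzc]
      simp

theorem lineFacts : LineFacts 𝕋 := by
  refine ⟨?_, ?_, ?_, ?_, ?_⟩
  · rintro _ ⟨b, hb, hb0, rfl⟩ _ ⟨c, hc, hc0, rfl⟩ hne hcom _ ⟨x, hx, hx0, rfl⟩ hxb hxc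
    have hcb := orth_of_commute_ptv hF hb hc hc0 hcom
    have h1 : (𝓗).h b x ≠ 0 := fun h => hxb (commute_ptv hF hx hb h)
    have h2 : (𝓗).h c x ≠ 0 := fun h => hxc (commute_ptv hF hx hc h)
    have hp := comb_isotropic hF hb hc hcb ((𝓗).h c x) (-(𝓗).h b x)
    refine ⟨_, (rad_iff hF hb hb0 hc hc0 hcb hne _).2
      ⟨_, _, hp, h2, neg_ne_zero.2 h1, rfl⟩, ?_⟩
    refine commute_ptv hF hx hp ?_
    rw [(𝓗).add_left, (𝓗).smul_left, (𝓗).smul_left]
    ring
  · rintro _ ⟨b, hb, hb0, rfl⟩ _ ⟨c, hc, hc0, rfl⟩ hne hcom _ ⟨x, hx, hx0, rfl⟩ hxb hxc p q hp hq hcp hcq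
    have hcb := orth_of_commute_ptv hF hb hc hc0 hcom
    obtain ⟨α, β, hpv, hα, hβ, rfl⟩ := (rad_iff hF hb hb0 hc hc0 hcb hne p).1 hp
    obtain ⟨α', β', hqv, hα', hβ', rfl⟩ := (rad_iff hF hb hb0 hc hc0 hcb hne q).1 hq
    have nz : ∀ {v : 𝕍} {hv : (𝓗).h v v = 0}, v ≠ 0 → Commute (ptv hF x hx) (ptv hF v hv) →
        (𝓗).h v x = 0 := fun {v} {hv} h0 h => orth_of_commute_ptv hF hx hv h0 h
    have hind := independent_of_ne hF hb hb0 hc hne
    have ne0 : ∀ a e : F, a ≠ 0 → a • b + e • c ≠ 0 := fun a e ha h => hind (-(a⁻¹ * e)) (by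
      have h1 := congrArg (a⁻¹ • ·) (eq_neg_of_add_eq_zero_left h)
      simp only [smul_smul, inv_mul_cancel₀ ha, one_smul, smul_neg] at h1
      rw [h1, neg_smul])
    have e1 := nz (ne0 α β hα) hcp
    have e2 := nz (ne0 α' β' hα') hcq
    rw [(𝓗).add_left, (𝓗).smul_left, (𝓗).smul_left] at e1 e2
    have h1 : (𝓗).h b x ≠ 0 := fun h => hxb (commute_ptv hF hx hb h)
    have h2 : (𝓗).h c x ≠ 0 := fun h => hxc (commute_ptv hF hx hc h)
    have hdet : α * β' = α' * β := by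
      have : (α * β' - α' * β) * (𝓗).h c x = 0 := by linear_combination α * e2 - α' * e1
      exact sub_eq_zero.1 ((mul_eq_zero.1 this).resolve_right h2)
    refine ptv_congr' hF (t := α / α') (div_ne_zero hα hα') hqv hpv ?_
    rw [smul_add, smul_smul, smul_smul, div_mul_cancel₀ _ hα',
      show α / α' * β' = β by field_simp; linear_combination hdet]
  · rintro _ ⟨b, hb, hb0, rfl⟩ _ ⟨c, hc, hc0, rfl⟩ hne hcom p q r s hp hq hr hs hpq hpr hqr
    have hcb := orth_of_commute_ptv hF hb hc hc0 hcom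
    obtain ⟨a₁, e₁, h₁, ha₁, he₁, rfl⟩ := (rad_iff hF hb hb0 hc hc0 hcb hne p).1 hp
    obtain ⟨a₂, e₂, h₂, ha₂, he₂, rfl⟩ := (rad_iff hF hb hb0 hc hc0 hcb hne q).1 hq
    obtain ⟨a₃, e₃, h₃, ha₃, he₃, rfl⟩ := (rad_iff hF hb hb0 hc hc0 hcb hne r).1 hr
    obtain ⟨a₄, e₄, h₄, ha₄, he₄, rfl⟩ := (rad_iff hF hb hb0 hc hc0 hcb hne s).1 hs
    have same : ∀ {a e a' e' : F} {h : (𝓗).h (a • b + e • c) (a • b + e • c) = 0}
        {h' : (𝓗).h (a' • b + e' • c) (a' • b + e' • c) = 0}, a ≠ 0 → a' ≠ 0 → a⁻¹ * e = a'⁻¹ * e' →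
        ptv hF _ h = ptv hF _ h' := by
      intro a e a' e' h h' ha ha' he
      refine ptv_congr' hF (t := a / a') (div_ne_zero ha ha') h' h ?_
      rw [smul_add, smul_smul, smul_smul, div_mul_cancel₀ _ ha',
        show a / a' * e' = e by field_simp at he ⊢; linear_combination -he]
    classical
    by_contra! hno
    obtain ⟨n1, n2, n3⟩ := hno
    have hcard : ({a₁⁻¹ * e₁, a₂⁻¹ * e₂, a₃⁻¹ * e₃, a₄⁻¹ * e₄} : Finset F).card = 4 := by
      rw [Finset.card_insert_of_notMem, Finset.card_insert_of_notMem, Finset.card_insert_of_notMem,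
        Finset.card_singleton]
      · simp only [Finset.mem_singleton]; exact fun h => n3 (same ha₄ ha₃ h.symm)
      · simp only [Finset.mem_insert, Finset.mem_singleton, not_or]
        exact ⟨fun h => hqr (same ha₂ ha₃ h), fun h => n2 (same ha₄ ha₂ h.symm)⟩
      · simp only [Finset.mem_insert, Finset.mem_singleton, not_or]
        exact ⟨fun h => hpq (same ha₁ ha₂ h), fun h => hpr (same ha₁ ha₃ h),
          fun h => n1 (same ha₄ ha₁ h.symm)⟩
    have hsub : ({a₁⁻¹ * e₁, a₂⁻¹ * e₂, a₃⁻¹ * e₃, a₄⁻¹ * e₄} : Finset F) ⊆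
        Finset.univ.erase 0 := by
      intro t ht
      refine Finset.mem_erase.2 ⟨?_, Finset.mem_univ _⟩
      simp only [Finset.mem_insert, Finset.mem_singleton] at ht
      rcases ht with rfl | rfl | rfl | rfl
      exacts [mul_ne_zero (inv_ne_zero ha₁) he₁, mul_ne_zero (inv_ne_zero ha₂) he₂,
        mul_ne_zero (inv_ne_zero ha₃) he₃, mul_ne_zero (inv_ne_zero ha₄) he₄]
    have := Finset.card_le_card hsub
    rw [hcard, Finset.card_erase_of_mem (Finset.mem_univ _), Finset.card_univ, hF] at this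
    norm_num at this
  · rintro _ ⟨b, hb, hb0, rfl⟩ _ ⟨c, hc, hc0, rfl⟩ hne hcom p hp _ ⟨x, hx, hx0, rfl⟩ hxb hxp
    have hcb := orth_of_commute_ptv hF hb hc hc0 hcom
    obtain ⟨α, β, hpv, hα, hβ, rfl⟩ := (rad_iff hF hb hb0 hc hc0 hcb hne p).1 hp
    refine commute_ptv hF hx hc ?_
    have h1 := orth_of_commute_ptv hF hx hb hb0 hxb
    have hne0 : α • b + β • c ≠ 0 := fun h =>
      independent_of_ne hF hb hb0 hc hne (-(α⁻¹ * β)) (by
        have h1 := congrArg (α⁻¹ • ·) (eq_neg_of_add_eq_zero_left h)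
        simp only [smul_smul, inv_mul_cancel₀ hα, one_smul, smul_neg] at h1
        rw [h1, neg_smul])
    have h2 := orth_of_commute_ptv hF hx hpv hne0 hxp
    rw [(𝓗).add_left, (𝓗).smul_left, (𝓗).smul_left, h1, mul_zero, zero_add] at h2
    exact (mul_eq_zero.1 h2).resolve_left hβ
  · rintro _ ⟨b, hb, hb0, rfl⟩ _ ⟨a, ha, ha0, rfl⟩ hba _ ⟨y, hy, hy0, rfl⟩ hyb hcy
    have hba' : (𝓗).h b a ≠ 0 := fun h => hba (commute_ptv hF hb ha ((𝓗).h_comm_zero h))
    have hyb0 := orth_of_commute_ptv hF hy hb hb0 hcy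
    have hyb1 : (𝓗).h y b = 0 := (𝓗).h_comm_zero hyb0
    set t := (𝓗).h y a / (𝓗).h b a with ht
    set f := (1 : F) • y + (-t) • b with hfdef
    have hf : (𝓗).h f f = 0 := comb_isotropic hF hy hb hyb0 1 (-t)
    have hf0 : f ≠ 0 := fun h => independent_of_ne hF hy hy0 hb hyb t (by
      rw [hfdef, one_smul, neg_smul, ← sub_eq_add_neg, sub_eq_zero] at h
      exact h.symm)
    have hfb : (𝓗).h f b = 0 := by
      rw [hfdef, (𝓗).add_left, (𝓗).smul_left, (𝓗).smul_left, hyb1, hb]; simp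
    have hfa : (𝓗).h f a = 0 := by
      rw [hfdef, (𝓗).add_left, (𝓗).smul_left, (𝓗).smul_left, ht]
      field_simp
      ring
    have hfne : ptv hF f hf ≠ ptv hF b hb := ne_ptv hF hf hb ha ha0 ((𝓗).h_comm_zero hfa)
      fun h => hba' ((𝓗).h_comm_zero h)
    refine ⟨_, ptv_mem hF hf hf0, hfne, commute_ptv hF hf hb ((𝓗).h_comm_zero hfb),
      commute_ptv hF hf ha ((𝓗).h_comm_zero hfa), ?_⟩
    by_cases hyf : ptv hF y hy = ptv hF f hf
    · exact Or.inl hyf
    refine Or.inr ((rad_iff hF hb hb0 hf hf0 hfb hfne.symm _).2 ?_)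
    have ht0 : t ≠ 0 := fun h => hyf (ptv_congr' hF one_ne_zero hf hy (by
      rw [hfdef, h, neg_zero, zero_smul, add_zero, one_smul, one_smul]))
    have e : y = t • b + (1 : F) • f := by rw [hfdef, smul_add, smul_smul, smul_smul]; module
    refine ⟨t, 1, e ▸ hy, ht0, one_ne_zero, ?_⟩
    congr 1

end CfsgLib.FischerOrder
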