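import Cfsg.Agent.Lib.FischerOrder.ReflModel
import Cfsg.Agent.Lib.FischerOrder.Graph
import Cfsg.Agent.Lib.FischerType.M22

set_option autoImplicit false

/-! A class of 3-transpositions of a projective reflection group of dimension six and discriminant one
is the graph of 126 points. -/

namespace CfsgLib.FischerOrder

open QuadraticMap (polar)
open CfsgLib.OrthSpinor CfsgLib.OrthReflThree Subgroup

namespace Refl

/-- The coordinates of the point `k`. -/
def coords (k : Fin 126) : Fin 6 → ZMod 3 := fun i => (coordN k i : ZMod 3)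

theorem cast_dot (k l : Fin 126) : ((dotN k l : ℕ) : ZMod 3) = ∑ i, coords k i * coords l i := by
  rw [dotN, ZMod.natCast_mod, Fin.sum_univ_six]
  push_cast
  rfl

theorem dot_eq_zero_iff (k l : Fin 126) : (∑ i, coords k i * coords l i) = 0 ↔ dotN k l = 0 := by
  rw [← cast_dot, ZMod.natCast_eq_zero_iff]
  have : dotN k l < 3 := Nat.mod_lt _ (by norm_num)
  constructor
  · intro h
    exact Nat.eq_zero_of_dvd_of_lt h this
  · intro h; rw [h]; exact dvd_zero _

theorem norm_coords (k : Fin 126) : (∑ i, coords k i * coords k i) = 1 := by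
  have : ∀ k : Fin 126, dotN k k = 1 := by decide +kernel
  rw [← cast_dot, this k, Nat.cast_one]

theorem coords_sign {k l : Fin 126} (h : coords k = coords l ∨ coords k = -coords l) : k = l := by
  have hlt : ∀ a i : ℕ, coordN a i < 3 := by
    intro a i
    unfold coordN
    dsimp only
    split_ifs <;> omega
  refine coordN_sep k l ?_
  rw [Bool.or_eq_true]
  rcases h with h | h
  · left
    have e : ∀ i : Fin 6, coordN k i = coordN l i := fun i => by
      have h1 := congrFun h i
      have h2 := (ZMod.natCast_eq_natCast_iff' _ _ _).1 h1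
      rwa [Nat.mod_eq_of_lt (hlt _ _), Nat.mod_eq_of_lt (hlt _ _)] at h2
    simp [show coordN k 0 = coordN l 0 from e 0, show coordN k 1 = coordN l 1 from e 1,
      show coordN k 2 = coordN l 2 from e 2, show coordN k 3 = coordN l 3 from e 3,
      show coordN k 4 = coordN l 4 from e 4, show coordN k 5 = coordN l 5 from e 5]
  · right
    have e : ∀ i : Fin 6, coordN k i = 2 * coordN l i % 3 := fun i => by
      have h1 : (coordN k i : ZMod 3) = ((2 * coordN l i : ℕ) : ZMod 3) := by
        have h0 := congrFun h i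
        rw [Nat.cast_mul]
        simp only [coords, Pi.neg_apply] at h0
        rw [h0]
        have : ∀ t : ZMod 3, -t = ((2 : ℕ) : ZMod 3) * t := by decide
        exact this _
      have h2 := (ZMod.natCast_eq_natCast_iff' _ _ _).1 h1
      rwa [Nat.mod_eq_of_lt (hlt _ _)] at h2
    simp [show coordN k 0 = 2 * coordN l 0 % 3 from e 0, show coordN k 1 = 2 * coordN l 1 % 3 from e 1,
      show coordN k 2 = 2 * coordN l 2 % 3 from e 2, show coordN k 3 = 2 * coordN l 3 % 3 from e 3,
      show coordN k 4 = 2 * coordN l 4 % 3 from e 4, show coordN k 5 = 2 * coordN l 5 % 3 from e 5]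

theorem coords_cover (a : Fin 6 → ZMod 3) (ha : ∑ i, a i * a i = 1) :
    ∃ k, a = coords k ∨ a = -coords k := by
  have hv : ∀ i, (a i).val < 3 := fun i => ZMod.val_lt _
  set N : ℕ := (a 0).val + 3 * (a 1).val + 9 * (a 2).val + 27 * (a 3).val + 81 * (a 4).val +
    243 * (a 5).val with hN
  have hN' : N < 729 := by have := hv 0; have := hv 1; have := hv 2; have := hv 3; have := hv 4; have := hv 5; omega
  have d0 : N % 3 = (a 0).val := by have := hv 0; omega
  have d1 : N / 3 % 3 = (a 1).val := by have := hv 0; have := hv 1; omega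
  have d2 : N / 9 % 3 = (a 2).val := by have := hv 0; have := hv 1; have := hv 2; omega
  have d3 : N / 27 % 3 = (a 3).val := by
    have := hv 0; have := hv 1; have := hv 2; have := hv 3; omega
  have d4 : N / 81 % 3 = (a 4).val := by
    have := hv 0; have := hv 1; have := hv 2; have := hv 3; have := hv 4; omega
  have d5 : N / 243 % 3 = (a 5).val := by
    have := hv 0; have := hv 1; have := hv 2; have := hv 3; have := hv 4; have := hv 5; omega
  have hsum : ((a 0).val * (a 0).val + (a 1).val * (a 1).val + (a 2).val * (a 2).val +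
      (a 3).val * (a 3).val + (a 4).val * (a 4).val + (a 5).val * (a 5).val) % 3 = 1 := by
    refine (ZMod.natCast_eq_natCast_iff' _ 1 3).1 ?_
    push_cast
    simp only [ZMod.natCast_zmod_val]
    rw [← ha, Fin.sum_univ_six]
  have h := coordN_cover ⟨N, hN'⟩ (by simpa only [d0, d1, d2, d3, d4, d5] using hsum)
  simp only [d0, d1, d2, d3, d4, d5, List.any_eq_true] at h
  obtain ⟨k, -, m, hm, hk⟩ := h
  simp only [Bool.and_eq_true, beq_iff_eq] at hk
  obtain ⟨⟨⟨⟨⟨k0, k1⟩, k2⟩, k3⟩, k4⟩, k5⟩ := hk
  refine ⟨k, ?_⟩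
  have hall : ∀ i : Fin 6, a i = (m : ZMod 3) * coords k i := by
    intro i
    have key : ∀ v : ℕ, m * coordN k i % 3 = v → v = (a i).val → a i = (m : ZMod 3) * coords k i := by
      intro v h1 h2
      have := congrArg (fun t : ℕ => (t : ZMod 3)) (h1.trans h2)
      simp only [ZMod.natCast_mod, Nat.cast_mul, ZMod.natCast_zmod_val] at this
      exact this.symm
    fin_cases i
    exacts [key _ k0 rfl, key _ k1 rfl, key _ k2 rfl, key _ k3 rfl, key _ k4 rfl, key _ k5 rfl]
  simp only [List.mem_cons, List.not_mem_nil, or_false] at hm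
  rcases hm with rfl | rfl
  · left; funext i; rw [hall i, Nat.cast_one, one_mul]
  · right; funext i
    rw [hall i, Pi.neg_apply]
    have : ∀ t : ZMod 3, ((2 : ℕ) : ZMod 3) * t = -t := by decide
    exact this _

variable {Q : QuadraticForm (ZMod 3) (Fin 6 → ZMod 3)} {c : ZMod 3}
  (hQ : (QuadraticMap.polarBilin Q).Nondegenerate) (hμ : Cfsg.polarGramDet (⇑Q) = 1) (hc : c ≠ 0)

local notation "𝕍" => (Fin 6 → ZMod 3)

include hQ hμ hc

theorem refl_eq_or {v w : 𝕍} (hv : Q v = c) (hw : Q w = c)
    (h : (QuotientGroup.mk' (center ↥(RG Q c))) (rr hv hc) = (QuotientGroup.mk' (center ↥(RG Q c))) (rr hw hc)) :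
    w = v ∨ w = -v := by
  have hz : (rr hv hc)⁻¹ * rr hw hc ∈ center ↥(RG Q c) := QuotientGroup.eq.1 h
  have hvn : Q v ≠ 0 := hv ▸ hc
  have hwn : Q w ≠ 0 := hw ▸ hc
  have hsame : ∀ x, act Q (reflection hwn) x = act Q (reflection hvn) x := by
    rcases center_cases' hQ hc hμ hz with h1 | h1
    · intro x
      have : reflection hvn = reflection hwn := inv_mul_eq_one.1 h1
      rw [this]
    · exfalso
      obtain ⟨B⟩ := exists_nbasis hQ hμ hc
      obtain ⟨av, hav⟩ := B.exists_coords hQ hc v
      obtain ⟨aw, haw⟩ := B.exists_coords hQ hc w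
      obtain ⟨x, hx0, hxv, hxw⟩ : ∃ x : 𝕍, x ≠ 0 ∧ polar (⇑Q) v x = 0 ∧ polar (⇑Q) w x = 0 := by
        let L : 𝕍 →ₗ[ZMod 3] (Fin 2 → ZMod 3) :=
          LinearMap.pi ![QuadraticMap.polarBilin Q v, QuadraticMap.polarBilin Q w]
        have hker : LinearMap.ker L ≠ ⊥ := by
          intro hb
          have h2 := LinearMap.finrank_range_add_finrank_ker L
          rw [hb, finrank_bot, add_zero, Module.finrank_fin_fun] at h2
          have h3 := Submodule.finrank_le (LinearMap.range L)
          rw [Module.finrank_fin_fun] at h3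
          omega
        obtain ⟨x, hx, hx0⟩ := Submodule.exists_mem_ne_zero_of_ne_bot hker
        exact ⟨x, hx0, congrFun (LinearMap.mem_ker.1 hx) 0, congrFun (LinearMap.mem_ker.1 hx) 1⟩
      have h2 := h1 x
      simp only [Subgroup.coe_mul, Subgroup.coe_inv, rr] at h2
      rw [act_mul, act_reflection_of_ortho _ hxw, inv_eq_of_mul_eq_one_right (reflection_mul_self _),
        act_reflection_of_ortho _ hxv] at h2
      have : ∀ u : ZMod 3, u = -u → u = 0 := by decide
      exact hx0 (funext fun i => this _ (congrFun h2 i))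
  obtain ⟨t, rfl⟩ := eq_smul_of_reflection hvn ((hsame w).symm.trans (act_reflection_self hwn))
  have hsq : ∀ t : ZMod 3, t = 0 ∨ t = 1 ∨ t = -1 := by decide
  rcases hsq t with rfl | rfl | rfl
  · rw [zero_smul, QuadraticMap.map_zero] at hw
    exact absurd hw.symm hc
  · exact Or.inl (one_smul _ _)
  · exact Or.inr (neg_one_smul _ _)

end Refl

/-- The points of a class as the standard graph. -/
structure GraphModel {X : Type*} [Group X] (E : Set X) where
  pt : Fin 126 → X
  inj : Function.Injective pt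
  range_eq : Set.range pt = E
  commute_iff : ∀ k l, Commute (pt k) (pt l) ↔ adjN k l = true
  split : ∀ e ∈ E, ∀ f ∈ E, e ≠ f → Commute e f → ∃ x ∈ E, ∃ y ∈ E, ¬ Commute x e ∧ ¬ Commute x f ∧
    ¬ Commute y e ∧ ¬ Commute y f ∧ ¬ Commute x y ∧ Commute (x * y * x) e ∧ ¬ Commute (x * y * x) f

open Refl in
theorem nonempty_model_refl {Q : QuadraticForm (ZMod 3) (Fin 6 → ZMod 3)} {c : ZMod 3}
    (hQ : (QuadraticMap.polarBilin Q).Nondegenerate) (hμ : Cfsg.polarGramDet (⇑Q) = 1) (hc : c ≠ 0)
    {E : Set (↥(RG Q c) ⧸ center ↥(RG Q c))} (hE : Cfsg.IsThreeTranspositionClass E) :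
    Nonempty (GraphModel E) := by
  have hEeq := class_is_refl hQ hc hμ hE
  obtain ⟨B⟩ := exists_nbasis hQ hμ hc
  set π := QuotientGroup.mk' (center ↥(RG Q c)) with hπ
  have hn : ∀ k, Q (B.vec (coords k)) = c := fun k => by rw [B.Q_vec, norm_coords, mul_one]
  let pt : Fin 126 → _ := fun k => π (rr (hn k) hc)
  have hvinj : ∀ a b, B.vec a = B.vec b → a = b := fun a b h => funext fun i => by
    have := congrArg (fun v => polar (⇑Q) (B.e i) v) h
    simp only [B.polar_vec_e] at this
    exact mul_left_cancel₀ (mul_ne_zero two_ne hc) this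
  have hneg : ∀ a, B.vec (-a) = -B.vec a := fun a => by
    simp only [NBasis.vec, Pi.neg_apply, neg_smul, Finset.sum_neg_distrib]
  have hinj : Function.Injective pt := by
    intro k l h
    rcases refl_eq_or hQ hμ hc _ _ h with h1 | h1
    · exact (coords_sign (Or.inl (hvinj _ _ h1))).symm
    · exact (coords_sign (Or.inr (hvinj _ _ (h1.trans (hneg _).symm)))).symm
  have hmem : ∀ k, pt k ∈ E := fun k => by
    rw [hEeq]
    exact ⟨rr (hn k) hc, (mem_norm_iff hc).2 ⟨_, hn k, rfl⟩, rfl⟩
  have hrange : Set.range pt = E := by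
    refine Set.Subset.antisymm (Set.range_subset_iff.2 hmem) ?_
    rw [hEeq]
    rintro _ ⟨r, hr, rfl⟩
    obtain ⟨v, hv, hrv⟩ := (mem_norm_iff hc).1 hr
    obtain ⟨a, rfl⟩ := B.exists_coords hQ hc v
    have ha : ∑ i, a i * a i = 1 := by
      rw [B.Q_vec] at hv
      exact mul_left_cancel₀ hc (hv.trans (mul_one c).symm)
    obtain ⟨k, hk | hk⟩ := coords_cover a ha
    · refine ⟨k, congrArg π (Subtype.ext ?_)⟩
      rw [hrv]
      exact reflection_congr (v := B.vec (coords k)) (w := B.vec a) (congrArg B.vec hk.symm)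
        (by rw [hn k]; exact hc)
    · refine ⟨k, congrArg π (Subtype.ext ?_)⟩
      rw [hrv]
      have e : B.vec a = (-1 : ZMod 3) • B.vec (coords k) := by rw [hk, hneg, neg_one_smul]
      exact ((reflection_congr (v := B.vec a) e (by rw [hv]; exact hc)).trans
        (reflection_smul (v := B.vec (coords k)) (by rw [hn k]; exact hc) (by decide))).symm
  have hpolar : ∀ k l, polar (⇑Q) (B.vec (coords k)) (B.vec (coords l)) = 0 ↔ dotN k l = 0 := fun k l => by
    rw [B.polar_vec, mul_eq_zero, or_iff_right (mul_ne_zero two_ne hc), dot_eq_zero_iff]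
  have hcom : ∀ (v w : Fin 6 → ZMod 3) (hv : Q v = c) (hw : Q w = c),
      Commute (π (rr hv hc)) (π (rr hw hc)) → polar (⇑Q) v w = 0 ∨ w = v ∨ w = -v := by
    intro v w hv hw h
    by_cases hp : polar (⇑Q) v w = 0
    · exact Or.inl hp
    right
    have hv' : Q v ≠ 0 := hv ▸ hc
    have hact : Q (act Q (reflection hv') w) = c := by rw [Q_act, hw]
    have h1 : π (rr hact hc) = π (rr hw hc) := by
      have e : rr hact hc = rr hv hc * rr hw hc * (rr hv hc)⁻¹ :=
        Subtype.ext (conj_reflection _ (hw ▸ hc : Q w ≠ 0)).symm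
      rw [e, map_mul, map_mul, map_inv, h.eq, mul_inv_cancel_right]
    rcases refl_eq_or hQ hμ hc _ _ h1 with h2 | h2
    · rw [act_reflection] at h2
      have h3 : (((Q v)⁻¹ * polar (⇑Q) v w)) • v = 0 := by rw [← sub_eq_self (a := w)]; exact h2.symm
      rcases smul_eq_zero.1 h3 with h4 | h4
      · exact absurd h4 (mul_ne_zero (inv_ne_zero hv') hp)
      · exact absurd (by rw [h4, QuadraticMap.polar_zero_left]) hp
    · rw [act_reflection, neg_sub] at h2
      have h3 : w + w = ((Q v)⁻¹ * polar (⇑Q) v w) • v := eq_sub_iff_add_eq.1 h2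
      have h5 : ∀ s t : ZMod 3, s + s = t → s = -t := by decide
      have h6 : w = -(((Q v)⁻¹ * polar (⇑Q) v w) • v) := funext fun i => h5 _ _ (congrFun h3 i)
      have hsq : ∀ t : ZMod 3, t = 0 ∨ t = 1 ∨ t = -1 := by decide
      rcases hsq ((Q v)⁻¹ * polar (⇑Q) v w) with h7 | h7 | h7
      · exact absurd h7 (mul_ne_zero (inv_ne_zero hv') hp)
      · rw [h7, one_smul] at h6; exact Or.inr h6
      · rw [h7, neg_one_smul, neg_neg] at h6; exact Or.inl h6
  have hiff : ∀ k l, Commute (pt k) (pt l) ↔ adjN k l = true := by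
    intro k l
    simp only [adjN, Bool.or_eq_true, beq_iff_eq]
    constructor
    · intro h
      rcases hcom _ _ (hn k) (hn l) h with h1 | h1
      · exact Or.inr ((hpolar k l).1 h1)
      · left
        rcases h1 with h1 | h1
        · exact (coords_sign (Or.inl (hvinj _ _ h1))).symm
        · exact (coords_sign (Or.inr (hvinj _ _ (h1.trans (hneg _).symm)))).symm
    · rintro (rfl | h)
      · exact Commute.refl _
      · have hc2 : Commute (rr (hn k) hc) (rr (hn l) hc) :=
          Subtype.ext (commute_of_polar hc (hn k) (hn l) ((hpolar k l).2 h))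
        exact hc2.map π
  refine ⟨⟨pt, hinj, hrange, hiff, ?_⟩⟩
  intro e he f hf hef hcef
  rw [← hrange] at he hf
  obtain ⟨e, rfl⟩ := he
  obtain ⟨f, rfl⟩ := hf
  have hne : e ≠ f := fun h => hef (by rw [h])
  have hany := exists_split_pair e f (by simp [(hiff e f).1 hcef, hne])
  obtain ⟨⟨x, y⟩, -, hsp⟩ := List.any_eq_true.1 hany
  simp only [splits, Bool.and_eq_true, Bool.not_eq_true', beq_iff_eq, bne_iff_ne, ne_eq] at hsp
  obtain ⟨⟨⟨⟨⟨⟨⟨⟨hxe, hxf⟩, hye⟩, hyf⟩, hxy⟩, hde⟩, hdf⟩, hm1⟩, hm2⟩ := hsp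
  have nc : ∀ a b, adjN a b = false → ¬ Commute (pt a) (pt b) := fun a b h h' =>
    Bool.false_ne_true (h.symm.trans ((hiff a b).1 h'))
  set vx := B.vec (coords x)
  set vy := B.vec (coords y)
  set w := act Q (reflection (Q := Q) (v := vx) ((hn x).symm ▸ hc)) vy with hw
  have hwn : Q w = c := by rw [hw, Q_act]; exact hn y
  let t : ZMod 3 := ∑ i, coords x i * coords y i
  have hwvec : w = B.vec fun i => coords y i + t * coords x i := by
    rw [hw, act_reflection, show Q vx = c from hn x, B.polar_vec]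
    show B.vec (coords y) - _ • B.vec (coords x) = _
    simp only [NBasis.vec, Finset.smul_sum, ← Finset.sum_sub_distrib, smul_smul, ← sub_smul]
    refine Finset.sum_congr rfl fun i _ => congrArg (· • B.e i) ?_
    have e2 : c⁻¹ * (2 * c * t) = 2 * t := by field_simp
    have : ∀ a b u : ZMod 3, b - 2 * u * a = b + u * a := by decide
    show coords y i - c⁻¹ * (2 * c * t) * coords x i = _
    rw [e2]
    exact this _ _ t
  have hz : π (rr hwn hc) = pt x * pt y * pt x := by
    have e1 : rr hwn hc = rr (hn x) hc * rr (hn y) hc * (rr (hn x) hc)⁻¹ :=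
      Subtype.ext (conj_reflection _ (hn y ▸ hc : Q vy ≠ 0)).symm
    rw [e1, map_mul, map_mul, map_inv]
    congr 1
  have hdot : ∀ g : Fin 126, ((dotThird x y g : ℕ) : ZMod 3) = ∑ i, (coords y i + t * coords x i) * coords g i := by
    intro g
    rw [dotThird, ZMod.natCast_mod, Nat.cast_add, Nat.cast_mul, cast_dot, cast_dot, cast_dot,
      Finset.mul_sum, ← Finset.sum_add_distrib]
    exact Finset.sum_congr rfl fun i _ => by ring
  refine ⟨pt x, hrange ▸ ⟨x, rfl⟩, pt y, hrange ▸ ⟨y, rfl⟩, nc x e hxe, nc x f hxf, nc y e hye,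
    nc y f hyf, nc x y hxy, ?_, ?_⟩
  · rw [← hz]
    have hp : polar (⇑Q) w (B.vec (coords e)) = 0 := by
      rw [hwvec, B.polar_vec, ← hdot, hde, Nat.cast_zero, mul_zero]
    exact (show Commute (rr hwn hc) (rr (hn e) hc) from
      Subtype.ext (commute_of_polar hc hwn (hn e) hp)).map π
  · rw [← hz]
    intro h
    rcases hcom _ _ hwn (hn f) h with h1 | h1
    · rw [hwvec, B.polar_vec, mul_eq_zero, or_iff_right (mul_ne_zero two_ne hc), ← hdot,
        ZMod.natCast_eq_zero_iff] at h1
      exact hdf (Nat.eq_zero_of_dvd_of_lt h1 (Nat.mod_lt _ (by norm_num)))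
    · have hcoord : ∀ m : ℕ, (∀ i : Fin 6, coords y i + t * coords x i = (m : ZMod 3) * coords f i) →
          eqThirdMul x y f m = true := by
        intro m hm
        have hk : ∀ i : Fin 6, (coordN y i + dotN x y * coordN x i) % 3 = m * coordN f i % 3 := fun i => by
          refine (ZMod.natCast_eq_natCast_iff' _ _ _).1 ?_
          have := hm i
          simp only [t, ← cast_dot, coords] at this
          push_cast
          exact this
        simp [eqThirdMul, show (coordN y 0 + dotN x y * coordN x 0) % 3 = m * coordN f 0 % 3 from hk 0,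
          show (coordN y 1 + dotN x y * coordN x 1) % 3 = m * coordN f 1 % 3 from hk 1,
          show (coordN y 2 + dotN x y * coordN x 2) % 3 = m * coordN f 2 % 3 from hk 2,
          show (coordN y 3 + dotN x y * coordN x 3) % 3 = m * coordN f 3 % 3 from hk 3,
          show (coordN y 4 + dotN x y * coordN x 4) % 3 = m * coordN f 4 % 3 from hk 4,
          show (coordN y 5 + dotN x y * coordN x 5) % 3 = m * coordN f 5 % 3 from hk 5]
      rcases h1 with h1 | h1
      · refine Bool.false_ne_true (hm1.symm.trans (hcoord 1 fun i => ?_))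
        rw [Nat.cast_one, one_mul]
        exact (congrFun (hvinj _ _ (h1.trans hwvec)) i).symm
      · refine Bool.false_ne_true (hm2.symm.trans (hcoord 2 fun i => ?_))
        have h8 := congrFun (hvinj _ _ (h1.trans ((congrArg Neg.neg hwvec).trans (hneg _).symm))) i
        rw [h8, Pi.neg_apply]
        have : ∀ u : ZMod 3, u = ((2 : ℕ) : ZMod 3) * -u := by decide
        exact this _

/-- The class of a projective reflection group is the standard graph. -/
theorem nonempty_graphModel {X : Type*} [Group X] {E : Set X} {c : ZMod 3} (hc : c ≠ 0)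
    (hE : Cfsg.IsThreeTranspositionClass E) (h : Cfsg.IsProjReflectionGroupModThree X 6 1 c) :
    Nonempty (GraphModel E) := by
  obtain ⟨Q, hQ, hμ, ⟨e⟩⟩ := h
  obtain ⟨M⟩ := nonempty_model_refl hQ hμ hc (E := e '' E) (FischerType.class_image e hE)
  have hback : ∀ a b, Commute a b ↔ Commute (e.symm a) (e.symm b) := fun a b =>
    (commute_map_iff e.symm.injective).symm
  refine ⟨⟨fun k => e.symm (M.pt k), fun k l h => M.inj (e.symm.injective h), ?_,
    fun k l => (hback _ _).symm.trans (M.commute_iff k l), fun a ha b hb hab hcab => ?_⟩⟩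
  · rw [Set.range_comp' e.symm M.pt, M.range_eq, ← Set.image_comp]
    simp
  · obtain ⟨_, ⟨x, hx, rfl⟩, _, ⟨y, hy, rfl⟩, h1, h2, h3, h4, h5, h6, h7⟩ :=
      M.split (e a) ⟨a, ha, rfl⟩ (e b) ⟨b, hb, rfl⟩ (fun h => hab (e.injective h)) (hcab.map e)
    exact ⟨x, hx, y, hy, fun h => h1 (h.map e), fun h => h2 (h.map e), fun h => h3 (h.map e),
      fun h => h4 (h.map e), fun h => h5 (h.map e),
      by rw [← map_mul, ← map_mul] at h6; exact (commute_map_iff e.injective).1 h6,
      fun h => h7 (by rw [← map_mul, ← map_mul]; exact h.map e)⟩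

end CfsgLib.FischerOrder
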