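import Cfsg.Agent.Lib.FischerOrder.Counts
import Cfsg.Agent.Lib.FischerInvol.Four

set_option autoImplicit false

/-! The centraliser of a product of three commuting members in type M(22). -/

namespace CfsgLib.FischerOrder

open Subgroup CfsgLib.FischerType CfsgLib.FischerInvol
open CfsgLib.ThreeTrans (link)

/-- An ordering of three different entries is a permutation. -/
theorem exists_perm_three : ∀ i j k : Fin 3, i ≠ j → i ≠ k → j ≠ k →
    ∃ σ : Equiv.Perm (Fin 3), σ 0 = i ∧ σ 1 = j ∧ σ 2 = k := by decide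

section orderings

variable {α : Type*}

/-- The six orderings of three entries. -/
def orderings (v : Fin 3 → α) : Set (α × α × α) :=
  Set.range fun σ : Equiv.Perm (Fin 3) => (v (σ 0), v (σ 1), v (σ 2))

theorem ncard_orderings {v : Fin 3 → α} (hv : Function.Injective v) : (orderings v).ncard = 6 := by
  rw [orderings, Set.ncard_range_of_injective, Nat.card_eq_fintype_card, Fintype.card_perm,
    Fintype.card_fin]
  · rfl
  intro σ τ h
  simp only [Prod.mk.injEq] at h
  refine Equiv.ext fun i => ?_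
  fin_cases i
  exacts [hv h.1, hv h.2.1, hv h.2.2]

theorem mem_orderings {a b c x y z : α} (hx : x = a ∨ x = b ∨ x = c) (hy : y = a ∨ y = b ∨ y = c)
    (hz : z = a ∨ z = b ∨ z = c) (hxy : x ≠ y) (hxz : x ≠ z) (hyz : y ≠ z) :
    (x, y, z) ∈ orderings ![a, b, c] := by
  have get : ∀ w, w = a ∨ w = b ∨ w = c → ∃ i, ![a, b, c] i = w := by
    rintro w (rfl | rfl | rfl)
    exacts [⟨0, rfl⟩, ⟨1, rfl⟩, ⟨2, rfl⟩]
  obtain ⟨i, rfl⟩ := get x hx
  obtain ⟨j, rfl⟩ := get y hy
  obtain ⟨k, rfl⟩ := get z hz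
  obtain ⟨σ, h0, h1, h2⟩ := exists_perm_three i j k (fun e => hxy (by rw [e])) (fun e => hxz (by rw [e]))
    (fun e => hyz (by rw [e]))
  exact ⟨σ, by simp only [h0, h1, h2]⟩

end orderings

variable {G : Type*} [Group G] {D : Set G}

/-- Ordered triples of commuting members. -/
def triples (D : Set G) : Set (G × G × G) :=
  {t | t.1 ∈ D ∧ t.2.1 ∈ link D t.1 ∧ t.2.2 ∈ link D t.1 ∧ t.2.2 ∈ link D t.2.1}

theorem orderings_subset {v : Fin 3 → G} (hv : ∀ i, v i ∈ D) (hinj : Function.Injective v)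
    (hcomm : ∀ i j, Commute (v i) (v j)) : orderings v ⊆ triples D := by
  rintro _ ⟨σ, rfl⟩
  have mk : ∀ i j : Fin 3, i ≠ j → v (σ j) ∈ link D (v (σ i)) := fun i j h =>
    ⟨hv _, fun e => h (σ.injective (hinj e)).symm, hcomm _ _⟩
  exact ⟨hv _, mk 0 1 (by decide), mk 0 2 (by decide), mk 1 2 (by decide)⟩

variable [Finite G]

theorem ncard_product_fibre (S : Setting D) (H : Data D) {a b c : G} (ha : a ∈ D)
    (hb : b ∈ link D a) (hc : c ∈ link D a) (hcb : c ∈ link D b) :
    {t | t ∈ triples D ∧ t.1 * t.2.1 * t.2.2 = a * b * c}.ncard = 12 := by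
  obtain ⟨p, q, r, hpq, hpr, hqr, hR, hprod⟩ := H.partner a b c ha hb hc hcb
  have hmem : ∀ s : G, s = p ∨ s = q ∨ s = r → s ∈ radical D a b c := fun s hs => by
    rw [hR]; simpa using hs
  have hp := hmem p (Or.inl rfl)
  have hq := hmem q (Or.inr (Or.inl rfl))
  have hr := hmem r (Or.inr (Or.inr rfl))
  have cpq := hp.2 q hq.1
  have cpr := hp.2 r hr.1
  have cqr := hq.2 r hr.1
  set u : Fin 3 → G := ![a, b, c] with hu
  set v : Fin 3 → G := ![p, q, r] with hv
  have huD : ∀ i, u i ∈ D := fun i => by fin_cases i; exacts [ha, hb.1, hc.1]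
  have hvD : ∀ i, v i ∈ D := fun i => by
    fin_cases i; exacts [hp.1.1.1.1, hq.1.1.1.1, hr.1.1.1.1]
  have hui : Function.Injective u := by
    intro i j h
    fin_cases i <;> fin_cases j <;> simp [hu, hb.2.1, hb.2.1.symm, hc.2.1, hc.2.1.symm, hcb.2.1,
      hcb.2.1.symm] at h ⊢
  have hvi : Function.Injective v := by
    intro i j h
    fin_cases i <;> fin_cases j <;> simp [hv, hpq, hpr, hqr, hpq.symm, hpr.symm, hqr.symm] at h ⊢
  have huc : ∀ i j, Commute (u i) (u j) := by
    intro i j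
    fin_cases i <;> fin_cases j
    exacts [Commute.refl _, hb.2.2, hc.2.2, hb.2.2.symm, Commute.refl _, hcb.2.2, hc.2.2.symm,
      hcb.2.2.symm, Commute.refl _]
  have hvc : ∀ i j, Commute (v i) (v j) := by
    intro i j
    fin_cases i <;> fin_cases j
    exacts [Commute.refl _, cpq, cpr, cpq.symm, Commute.refl _, cqr, cpr.symm, cqr.symm,
      Commute.refl _]
  have hne : ∀ i j, u i ≠ v j := by
    intro i j
    fin_cases i <;> fin_cases j
    exacts [hp.1.1.1.2.1.symm, hq.1.1.1.2.1.symm, hr.1.1.1.2.1.symm, hp.1.1.2.2.1.symm,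
      hq.1.1.2.2.1.symm, hr.1.1.2.2.1.symm, hp.1.2.2.1.symm, hq.1.2.2.1.symm, hr.1.2.2.1.symm]
  have e : {t | t ∈ triples D ∧ t.1 * t.2.1 * t.2.2 = a * b * c} = orderings u ∪ orderings v := by
    refine Set.Subset.antisymm ?_ ?_
    · rintro ⟨x, y, z⟩ ⟨⟨hx, hy, hz, hzy⟩, he⟩
      rcases S.triple_alternatives ha hb hc hcb hR hx hy.1 hz.1 hy.2.1.symm hz.2.1.symm
        hzy.2.1.symm hy.2.2 hz.2.2 hzy.2.2 he with h | h
      · left
        refine mem_orderings ?_ ?_ ?_ hy.2.1.symm hz.2.1.symm hzy.2.1.symm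
        · simpa using (h x).1 (by simp)
        · simpa using (h y).1 (by simp)
        · simpa using (h z).1 (by simp)
      · right
        refine mem_orderings ?_ ?_ ?_ hy.2.1.symm hz.2.1.symm hzy.2.1.symm
        · simpa using (h x).1 (by simp)
        · simpa using (h y).1 (by simp)
        · simpa using (h z).1 (by simp)
    · have key : ∀ {w : Fin 3 → G}, Function.Injective w → (∀ i j, Commute (w i) (w j)) →
          ∀ σ : Equiv.Perm (Fin 3), w (σ 0) * w (σ 1) * w (σ 2) = w 0 * w 1 * w 2 := by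
        intro w hw hwc σ
        refine prod_eq_of_set_eq (hw.ne (σ.injective.ne (by decide)))
          (hw.ne (σ.injective.ne (by decide))) (hw.ne (σ.injective.ne (by decide)))
          (hw.ne (by decide)) (hw.ne (by decide)) (hw.ne (by decide)) (hwc _ _) (hwc _ _) (hwc _ _) ?_
        ext g
        constructor
        · have : ∀ i : Fin 3, w i ∈ ({w 0, w 1, w 2} : Set G) := fun i => by fin_cases i <;> simp
          rintro (rfl | rfl | rfl) <;> exact this _
        · have : ∀ i : Fin 3, w i ∈ ({w (σ 0), w (σ 1), w (σ 2)} : Set G) := fun i => by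
            obtain ⟨j, rfl⟩ := σ.surjective i
            fin_cases j <;> simp
          rintro (rfl | rfl | rfl) <;> exact this _
      rintro t (⟨σ, rfl⟩ | ⟨σ, rfl⟩)
      · exact ⟨orderings_subset huD hui huc ⟨σ, rfl⟩, key hui huc σ⟩
      · exact ⟨orderings_subset hvD hvi hvc ⟨σ, rfl⟩, (key hvi hvc σ).trans hprod⟩
  have hdisj : Disjoint (orderings u) (orderings v) := by
    rw [Set.disjoint_left]
    rintro _ ⟨σ, rfl⟩ ⟨τ, h⟩
    exact hne _ _ (congrArg Prod.fst h).symm
  rw [e, Set.ncard_union_eq hdisj (Set.toFinite _) (Set.toFinite _), ncard_orderings hui,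
    ncard_orderings hvi]

theorem card_triples (S : Setting D) (h : Cfsg.IsOfTypeM22 G D) :
    (triples D).ncard = 3510 * (693 * 180) := by
  have e : ↥(triples D) ≃ Σ a : ↥D, Σ b : ↥(link D a.1), ↥(link D a.1 ∩ link D b.1) :=
    { toFun := fun t => ⟨⟨t.1.1, t.2.1⟩, ⟨t.1.2.1, t.2.2.1⟩, ⟨t.1.2.2, t.2.2.2.1, t.2.2.2.2⟩⟩
      invFun := fun s => ⟨(s.1.1, s.2.1.1, s.2.2.1), s.1.2, s.2.1.2, s.2.2.2.1, s.2.2.2.2⟩
      left_inv := fun _ => rfl
      right_inv := fun _ => rfl }
  cases nonempty_fintype G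
  classical
  rw [← Nat.card_coe_set_eq, Nat.card_congr e, Nat.card_sigma]
  have h1 : ∀ a : ↥D, Nat.card (Σ b : ↥(link D a.1), ↥(link D a.1 ∩ link D b.1)) = 693 * 180 := by
    intro a
    rw [Nat.card_sigma]
    simp only [Nat.card_coe_set_eq, ncard_inter_link S h a.2 (Subtype.prop _), Finset.sum_const,
      Finset.card_univ, smul_eq_mul]
    rw [← Nat.card_eq_fintype_card, Nat.card_coe_set_eq, ncard_link S h a.2]
  simp only [h1, Finset.sum_const, Finset.card_univ, smul_eq_mul]
  rw [← Nat.card_eq_fintype_card, Nat.card_coe_set_eq, ncard_class S h]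

theorem card_centralizer_triple (S : Setting D) (H : Data D) (h : Cfsg.IsOfTypeM22 G D) {a b c : G}
    (ha : a ∈ D) (hb : b ∈ link D a) (hc : c ∈ link D a) (hcb : c ∈ link D b) :
    Nat.card (centralizer ({a * b * c} : Set G)) = 1769472 := by
  cases nonempty_fintype G
  classical
  set j := a * b * c with hj
  set O := MulAction.orbit (ConjAct G) j with hO
  have hsur : ∀ y : ↥O, ∃ t ∈ triples D, t.1 * t.2.1 * t.2.2 = y.1 := by
    rintro ⟨_, g, rfl⟩
    refine ⟨(g • a, g • b, g • c), ?_, by simp [hj, smul_mul']⟩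
    simp only [ConjAct.smul_def]
    exact ⟨CfsgLib.ThreeTransp.class_conj_mem S.cls _ ha, link_conj_mem S.cls _ hb,
      link_conj_mem S.cls _ hc, link_conj_mem S.cls _ hcb⟩
  have hto : ∀ t : ↥(triples D), t.1.1 * t.1.2.1 * t.1.2.2 ∈ O := by
    rintro ⟨⟨x, y, z⟩, hx, hy, hz, hzy⟩
    obtain ⟨g, e1, e2, e3⟩ := H.conjTriple a b c x y z ha hb hc hcb hx hy hz hzy
    refine ⟨ConjAct.toConjAct g, ?_⟩
    show ConjAct.toConjAct g • j = x * y * z
    rw [ConjAct.smul_def, ← e1, ← e2, ← e3, hj, ConjAct.ofConjAct_toConjAct]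
    group
  let f : ↥(triples D) → ↥O := fun t => ⟨_, hto t⟩
  have hfib : ∀ y, Nat.card {t // f t = y} = 12 := by
    intro y
    obtain ⟨⟨x₁, x₂, x₃⟩, ⟨m1, m2, m3, m4⟩, he⟩ := hsur y
    rw [← ncard_product_fibre S H m1 m2 m3 m4, ← Nat.card_coe_set_eq]
    exact Nat.card_congr
      { toFun := fun t => ⟨t.1.1, t.1.2, (congrArg Subtype.val t.2).trans he.symm⟩
        invFun := fun t => ⟨⟨t.1, t.2.1⟩, Subtype.ext (t.2.2.trans he)⟩
        left_inv := fun _ => rfl
        right_inv := fun _ => rfl }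
  have hT := Nat.card_congr (Equiv.sigmaFiberEquiv f)
  rw [Nat.card_sigma] at hT
  simp only [hfib, Finset.sum_const, Finset.card_univ, smul_eq_mul] at hT
  rw [← Nat.card_eq_fintype_card, Nat.card_coe_set_eq, Nat.card_coe_set_eq, card_triples S h] at hT
  have key := MulAction.index_stabilizer (ConjAct G) j
  have h3 := Subgroup.card_mul_index (MulAction.stabilizer (ConjAct G) j)
  have e2 : Nat.card (MulAction.stabilizer (ConjAct G) j) = Nat.card (centralizer ({j} : Set G)) :=
    Nat.card_congr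
      { toFun := fun g => ⟨ConjAct.ofConjAct g.1, mem_centralizer_singleton_iff.2
          (mul_inv_eq_iff_eq_mul.1
            ((ConjAct.smul_def g.1 j).symm.trans (MulAction.mem_stabilizer_iff.1 g.2)))⟩
        invFun := fun g => ⟨ConjAct.toConjAct g.1, by
          simp [MulAction.mem_stabilizer_iff, ConjAct.smul_def,
            mul_inv_eq_iff_eq_mul.2 (mem_centralizer_singleton_iff.1 g.2)]⟩
        left_inv := fun _ => rfl
        right_inv := fun _ => rfl }
  have hk : O.ncard = 36486450 := by omega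
  rw [key, hk, e2, show Nat.card (ConjAct G) = Nat.card G from rfl, card_group S h] at h3
  omega

end CfsgLib.FischerOrder
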