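import Cfsg.Agent.Lib.FischerOrder.Counts
import Mathlib.LinearAlgebra.Span.Basic

set_option autoImplicit false

/-! The width of a class of type M(22). -/

namespace CfsgLib.FischerOrder

open Subgroup Module CfsgLib.Classical.Herm HermSpace CfsgLib.UnitaryTransv
open CfsgLib.FischerType CfsgLib.FischerInvol
open CfsgLib.FischerInvol.U6 (P P_orth P_ne)
open CfsgLib.ThreeTrans (link)

variable {G : Type*} [Group G] [Finite G] {D : Set G}

/-- Pairwise commuting members are at most 22. -/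
theorem ncard_le_of_pairwise_commute (S : Setting D) (h : Cfsg.IsOfTypeM22 G D) {E : Set G}
    (hE : E ⊆ D) (hcomm : ∀ a ∈ E, ∀ b ∈ E, Commute a b) : E.ncard ≤ 22 := by
  classical
  rcases E.eq_empty_or_nonempty with rfl | ⟨d, hd⟩
  · simp
  obtain ⟨F, i1, i2, ⟨M⟩⟩ := models_of_typeM22 S h (hE hd)
  have hsub : E \ {d} ⊆ link D d := fun x hx => ⟨hE hx.1, hx.2, hcomm d hd x hx.1⟩
  let V0 : Set (Fin 6 → F) := {v | ∃ x ∈ E \ {d}, M.Rep x v}
  let W := Submodule.span F V0
  have h0 : ∀ v ∈ V0, ∀ w ∈ V0, (stdHerm M.hF 6).h v w = 0 := by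
    rintro v ⟨x, hx, hv⟩ w ⟨y, hy, hw⟩
    exact (M.commute_iff hv hw).1 (hcomm x hx.1 y hy.1)
  have h1 : ∀ a ∈ W, ∀ b ∈ V0, (stdHerm M.hF 6).h a b = 0 := by
    intro a ha b hb
    induction ha using Submodule.span_induction with
    | mem x hx => exact h0 x hx b hb
    | zero => exact (stdHerm M.hF 6).zero_left _
    | add x y _ _ hx hy => rw [(stdHerm M.hF 6).add_left, hx, hy, add_zero]
    | smul t x _ hx => rw [(stdHerm M.hF 6).smul_left, hx, mul_zero]
  have h2 : ∀ a ∈ W, ∀ b ∈ W, (stdHerm M.hF 6).h a b = 0 := by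
    intro a ha b hb
    induction hb using Submodule.span_induction with
    | mem x hx => exact h1 a ha x hx
    | zero => exact (stdHerm M.hF 6).zero_right _
    | add x y _ _ hx hy => rw [(stdHerm M.hF 6).add_right, hx, hy, add_zero]
    | smul t x _ hx => rw [(stdHerm M.hF 6).smul_right, hx, mul_zero]
  have hrk := CfsgLib.FischerType.U6.finrank_add_le M.hF W W h2
  let Q : (Fin 6 → F) → Prop := fun v => v ∈ W ∧ v ≠ 0
  have hcount := M.ncard_mul_three (Q := Q) fun v hv =>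
    ⟨hv.2, h2 v hv.1 v hv.1, fun t ht => ⟨W.smul_mem t hv.1, smul_ne_zero ht hv.2⟩⟩
  have hsub2 : E \ {d} ⊆ {w | ∃ v, Q v ∧ M.Rep w v} := by
    intro x hx
    obtain ⟨v, hv⟩ := M.exists_vec (hsub hx)
    exact ⟨v, ⟨Submodule.subset_span ⟨x, hx, hv⟩, hv.ne_zero⟩, hv⟩
  have hQ : Nat.card {v // Q v} ≤ 63 := by
    have e1 : {v : Fin 6 → F | Q v} = (W : Set (Fin 6 → F)) \ {0} := by ext v; simp [Q]
    have e2 := Set.ncard_sdiff_singleton_of_mem (show (0 : Fin 6 → F) ∈ (W : Set (Fin 6 → F)) from W.zero_mem)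
    rw [← e1, ← Nat.card_coe_set_eq] at e2
    have e3 : (W : Set (Fin 6 → F)).ncard ≤ 64 := by
      rw [← Nat.card_coe_set_eq, show Nat.card ↥(W : Set (Fin 6 → F)) = Nat.card W from rfl,
        Module.natCard_eq_pow_finrank (K := F), Nat.card_eq_fintype_card, M.hF]
      calc (2 ^ 2) ^ finrank F W ≤ (2 ^ 2) ^ 3 := Nat.pow_le_pow_right (by norm_num) (by omega)
        _ = 64 := by norm_num
    have e4 : Nat.card {v // Q v} = (W : Set (Fin 6 → F)).ncard - 1 := e2
    omega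
  have h3 := Set.ncard_le_ncard hsub2 (Set.toFinite _)
  rw [Set.ncard_sdiff_singleton_of_mem hd] at h3
  omega

/-- The width of a class of type M(22) is 22. -/
theorem commutingWidth_eq (S : Setting D) (h : Cfsg.IsOfTypeM22 G D) :
    Cfsg.commutingWidth D = 22 := by
  obtain ⟨d, hd, -⟩ := S.cls.2.1
  obtain ⟨F, i1, i2, ⟨M⟩⟩ := models_of_typeM22 S h hd
  refine IsGreatest.csSup_eq ⟨?_, ?_⟩
  · exact ⟨M.base, fun x hx => M.base_subset hx, M.base.toFinite,
      fun a ha b hb => M.base_commute ha hb, M.ncard_base⟩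
  · rintro m ⟨E, h1, -, h2, rfl⟩
    exact ncard_le_of_pairwise_commute S h h1 h2

end CfsgLib.FischerOrder
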